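import Cfsg.Agent.Lib.PrimeBlock.Basic
import Cfsg.Agent.Lib.Characters.Galois
import Cfsg.Agent.OddChar.PowTwist

/-!
# Small members of the principal block of a simple group
-/

set_option linter.style.haveILetI false
set_option linter.unusedSectionVars false

namespace Cfsg.Agent.PrimeBlock

open Cfsg.Agent.Characters Cfsg.Agent.Blocks Subgroup
open scoped ComplexConjugate
open Polynomial (aeval)

universe u

variable {G : Type u} [Group G] [Finite G]

/-- Non-trivial irreducible characters of a non-abelian simple group are faithful projectively. -/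
theorem eq_one_of_norm_eq [IsSimpleGroup G] (hG : ¬ IsMulCommutative G) {χ : Cfsg.IrrCharacter G}
    (hχ : χ ≠ trivIrr G) {g : G} (hg : ‖(χ : G → ℂ) g‖ = ‖(χ : G → ℂ) 1‖) : g = 1 := by
  classical
  haveI := Fintype.ofFinite G
  by_contra hg1
  obtain ⟨n, ρ, hρ, hchar⟩ := χ.2
  rw [← hchar, ρ.char_one, Complex.norm_natCast] at hg
  obtain ⟨ω, hω⟩ := rep_apply_eq_smul_of_norm_eq ρ g hg
  rcases (inferInstance : (ρ.asGroupHom.ker).Normal).eq_bot_or_eq_top with hker | hker
  · have hinj := (MonoidHom.ker_eq_bot_iff ρ.asGroupHom).1 hker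
    have hprime := prime_card_of_simple_of_central hg1 fun x => hinj (Units.ext (by
      simp [Representation.asGroupHom_apply, hω, Module.End.mul_eq_comp, map_mul]))
    haveI := Fact.mk hprime
    haveI : IsCyclic G := isCyclic_of_prime_card rfl
    letI : CommGroup G := IsCyclic.commGroup
    exact hG ⟨⟨mul_comm⟩⟩
  · have hconst : ∀ x : G, (χ : G → ℂ) x = (χ : G → ℂ) 1 := fun x => by
      rw [← hchar]
      refine rep_char_eq_of_apply_eq_id ?_
      have hx : x ∈ ρ.asGroupHom.ker := hker ▸ Subgroup.mem_top x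
      have := congrArg Units.val (MonoidHom.mem_ker.1 hx)
      rw [Representation.asGroupHom_apply] at this
      exact this.trans (by rfl)
    have h0 := classInner_isIrr_ne χ.2 (trivIrr G).2 (fun e => hχ (Subtype.ext e))
    rw [classInner_def] at h0
    simp only [hconst, trivIrr_coe, map_one, mul_one, Finset.sum_const, Finset.card_univ,
      nsmul_eq_mul, ← Nat.card_eq_fintype_card] at h0
    rw [inv_mul_cancel_left₀ natCard_ne_zero] at h0
    exact irr_one_ne_zero χ.2 h0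

theorem deg_ne_one [IsSimpleGroup G] (hG : ¬ IsMulCommutative G) {χ : Cfsg.IrrCharacter G}
    (hχ : χ ≠ trivIrr G) : deg χ ≠ 1 := by
  intro h1
  obtain ⟨g, hg⟩ := exists_ne (1 : G)
  refine hg (eq_one_of_norm_eq hG hχ ?_)
  have h : (χ : G → ℂ) 1 = 1 := by rw [← deg_cast, h1, Nat.cast_one]
  obtain ⟨n, ρ, hρ, hchar⟩ := χ.2
  obtain ⟨v, hv, hsum⟩ := exists_rootsOfUnity_sum ρ g
  rw [← hchar] at h ⊢
  have hn : Module.finrank ℂ (Fin n → ℂ) = 1 := by rw [ρ.char_one] at h; exact_mod_cast h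
  have h2 := hsum 1
  simp only [pow_one] at h2
  haveI : Unique (Fin (Module.finrank ℂ (Fin n → ℂ))) := by rw [hn]; infer_instance
  rw [h, h2, Fintype.sum_unique, norm_one]
  exact Complex.norm_eq_one_of_pow_eq_one (hv _) (orderOf_pos g).ne'

/-- A value fixed by all power maps of exponent prime to the order is an integer. -/
theorem exists_int_of_pow_fixed {χ : G → ℂ} (hχ : Cfsg.IsCharacter G χ) {g : G}
    (h : ∀ m : ℕ, m.Coprime (Nat.card G) → χ (g ^ m) = χ g) : ∃ k : ℤ, χ g = (k : ℂ) := by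
  classical
  have hint := char_value_isIntegral hχ g
  obtain ⟨n, σ, rfl⟩ := hχ
  set M := Nat.card G with hMdef
  have hM : 0 < M := Nat.card_pos
  haveI : NeZero M := ⟨hM.ne'⟩
  have hζ : IsPrimitiveRoot (Complex.exp (2 * Real.pi * Complex.I / M)) M :=
    Complex.isPrimitiveRoot_exp M hM.ne'
  obtain ⟨Q, hQ⟩ := exists_poly_values σ g hM pow_card_eq_one' hζ
  obtain ⟨q, hq⟩ := (exists_rat_sum_prod_primitiveRoots hM Q).1
  have hall : ∀ μ ∈ primitiveRoots M ℂ, aeval μ Q = σ.character g := by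
    intro μ hμ
    obtain ⟨k, _, hk, rfl⟩ := (hζ.isPrimitiveRoot_iff (ξ := μ) (k := M)).1
      ((mem_primitiveRoots hM).1 hμ)
    rw [← hQ, h k hk]
  rw [Finset.sum_congr rfl hall, Finset.sum_const, nsmul_eq_mul] at hq
  have hne : ((primitiveRoots M ℂ).card : ℂ) ≠ 0 := Nat.cast_ne_zero.2
    (Finset.card_pos.2 ⟨_, (mem_primitiveRoots hM).2 hζ⟩).ne'
  have hval : σ.character g = ((q / (primitiveRoots M ℂ).card : ℚ) : ℂ) := by
    push_cast
    rw [← hq, mul_div_cancel_left₀ _ hne]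
  obtain ⟨k, hk⟩ := exists_int_of_isIntegral_ratCast (hval ▸ hint)
  exact ⟨k, by rw [hval, hk]⟩

variable {p : ℕ} [Fact p.Prime] {P : Sylow p G} (D : PBlock P)
include D

/-- A small member of the principal block makes `P` its own centralizer. -/
theorem PBlock.card_centralizer [IsSimpleGroup G] (hG : ¬ IsMulCommutative G)
    {χ : Cfsg.IrrCharacter G} (hχ : χ ∈ Cfsg.principalBlock D.M G) (hne : χ ≠ trivIrr G)
    (hlt : deg χ < p) : Nat.card (centralizer ((P : Subgroup G) : Set G)) = p := by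
  set C := centralizer ((P : Subgroup G) : Set G) with hC
  have hp : p.Prime := Fact.out
  obtain ⟨g, hg1, hgP⟩ : ∃ g, g ≠ 1 ∧ g ∈ (P : Subgroup G) := by
    haveI : Nontrivial (P : Subgroup G) := Finite.one_lt_card_iff_nontrivial.1 (by rw [D.card_P]; exact hp.one_lt)
    obtain ⟨x, hx⟩ := exists_ne (1 : (P : Subgroup G))
    exact ⟨x, fun e => hx (Subtype.ext e), x.2⟩
  have hcomm : ∀ k ∈ C, Commute g k := fun k hk => mem_centralizer_iff.1 hk g hgP
  have hreg : ∀ k ∈ C, ¬ p ∣ orderOf k → k = 1 := fun k hk hkr => by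
    refine eq_one_of_norm_eq hG hne (congrArg _ ?_)
    refine eq_one_of_deg_lt (irr_isCharacter χ) (charDegree_cast χ).symm hlt (D.x_pow hgP)
      (hcomm k hk) (hp.coprime_iff_not_dvd.2 hkr) fun i hi => ?_
    exact D.value_mul hχ (pow_mem hgP i) (D.pow_ne_one hgP hg1 hi) hk hkr
  have hpC : IsPGroup p C := fun k => by
    obtain ⟨a, m, hm, ham⟩ := Nat.exists_eq_pow_mul_and_not_dvd (orderOf_pos (k : G)).ne' p hp.ne_one
    refine ⟨a, Subtype.ext (hreg _ (pow_mem k.2 _) ?_)⟩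
    show ¬ p ∣ orderOf ((k : G) ^ p ^ a)
    rw [orderOf_pow_of_dvd (pow_pos hp.pos a).ne' (ham ▸ dvd_mul_right _ _), ham,
      Nat.mul_div_cancel_left _ (pow_pos hp.pos a)]
    exact hm
  have hPC : (P : Subgroup G) ≤ C := fun x hx => mem_centralizer_iff.2 fun y hy => by
    haveI : IsCyclic (P : Subgroup G) := isCyclic_of_prime_card D.card_P
    letI := IsCyclic.commGroup (α := (P : Subgroup G))
    exact congrArg Subtype.val (mul_comm (⟨y, hy⟩ : (P : Subgroup G)) ⟨x, hx⟩)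
  rw [P.is_maximal' hpC hPC, D.card_P]

theorem PBlock.degree_small {θ : Cfsg.IrrCharacter G} (hθ : θ ∈ D.Y) (hlt : deg θ < p) :
    (deg θ = D.e ∧ D.ε = 1) ∨ (deg θ + D.e = p ∧ D.ε = -1) := by
  have h := (Int.modEq_iff_dvd.1 (D.deg_Y θ hθ))
  have he := D.e_lt
  have he0 := D.e_pos
  rcases D.ε_eq with hε | hε <;> rw [hε] at h ⊢
  · obtain ⟨c, hc⟩ := h
    rcases lt_trichotomy c 0 with hc0 | rfl | hc0
    · nlinarith
    · exact Or.inl ⟨by omega, rfl⟩
    · nlinarith
  · obtain ⟨c, hc⟩ := h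
    have hc1 : c = -1 := by
      rcases lt_trichotomy c (-1) with hc0 | hc0 | hc0
      · nlinarith
      · exact hc0
      · nlinarith
    exact Or.inr ⟨by rw [hc1] at hc; omega, rfl⟩

theorem PBlock.e_mul : (D.Y.card : ℂ) * D.e = (p : ℂ) - 1 := by
  rw [D.card_Y, ← Nat.cast_mul, Nat.div_mul_cancel D.e_dvd, Nat.cast_sub
    (Fact.out : p.Prime).one_le, Nat.cast_one]

theorem range_split (f : ℕ → ℂ) :
    ∑ i ∈ Finset.range p, f i = f 0 + ∑ i ∈ (Finset.range p).erase 0, f i :=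
  (Finset.add_sum_erase _ f (Finset.mem_range.2 (Fact.out : p.Prime).pos)).symm

/-- The eigenvalues of an element of `P` on a small exceptional character are distinct. -/
theorem PBlock.norm_small {θ : Cfsg.IrrCharacter G} (hθ : θ ∈ D.Y) (hlt : deg θ < p) {x : G}
    (hx : x ∈ (P : Subgroup G)) (hx1 : x ≠ 1) :
    ∑ i ∈ Finset.range p, (θ : G → ℂ) (x ^ i) * conj ((θ : G → ℂ) (x ^ i)) = (p : ℂ) * deg θ := by
  classical
  have hp : p.Prime := Fact.out
  have hN : ∀ θ' ∈ D.Y, ∃ N : ℕ, deg θ ≤ N ∧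
      ∑ i ∈ Finset.range p, (θ' : G → ℂ) (x ^ i) * conj ((θ' : G → ℂ) (x ^ i)) = (p : ℂ) * N := by
    intro θ' hθ'
    obtain ⟨n, N, hn, hle, he⟩ := card_pairs (irr_isCharacter θ') hp.ne_zero (D.x_pow hx)
    rw [← deg_cast, D.deg_Y_eq hθ' hθ] at hn
    exact ⟨N, (Nat.cast_inj.1 hn).le.trans hle, he⟩
  choose! N hNle hNeq using hN
  have hsum : (p : ℂ) * ∑ θ' ∈ D.Y, (N θ' : ℂ) = (p : ℂ) * ((D.Y.card : ℂ) * deg θ) := by
    rw [Finset.mul_sum, ← Finset.sum_congr rfl hNeq, Finset.sum_comm,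
      range_split (p := p) D, Finset.sum_congr (s₁ := (Finset.range p).erase 0) rfl fun i hi =>
        D.norm_Y (pow_mem hx i) (D.pow_ne_one hx hx1 fun hd => by
          have := Nat.le_of_dvd (Nat.pos_of_ne_zero (Finset.mem_erase.1 hi).1) hd
          have := Finset.mem_range.1 (Finset.mem_erase.1 hi).2
          omega)]
    simp only [pow_zero, ← deg_cast, map_natCast]
    rw [Finset.sum_congr (s₁ := D.Y) rfl fun θ' hθ' => by rw [D.deg_Y_eq hθ' hθ], Finset.sum_const,
      Finset.sum_const, Finset.card_erase_of_mem (Finset.mem_range.2 hp.pos), Finset.card_range,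
      nsmul_eq_mul, nsmul_eq_mul, Nat.cast_sub hp.one_le, Nat.cast_one, ← D.e_mul]
    rcases D.degree_small hθ hlt with ⟨h, -⟩ | ⟨h, -⟩
    · rw [h]; ring
    · have h' : (p : ℂ) = (deg θ : ℂ) + (D.e : ℂ) := by exact_mod_cast h.symm
      linear_combination ((D.Y.card : ℂ) * D.e - (D.Y.card : ℂ) * deg θ) * h'
  have h2 : ∑ θ' ∈ D.Y, N θ' = ∑ θ' ∈ D.Y, deg θ := by
    rw [Finset.sum_const, smul_eq_mul]
    exact_mod_cast mul_left_cancel₀ (Nat.cast_ne_zero.2 hp.ne_zero) hsum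
  rw [hNeq θ hθ, ← ((Finset.sum_eq_sum_iff_of_le fun θ' hθ' => hNle θ' hθ').1 h2.symm θ hθ)]

/-- The power twists of a small exceptional character agree with it off `P`. -/
theorem PBlock.twist_eq (hC : Nat.card (centralizer ((P : Subgroup G) : Set G)) = p)
    {θ : Cfsg.IrrCharacter G} (hθ : θ ∈ D.Y) (h1 : 1 < deg θ) (hlt : deg θ + 1 < p) {g : G}
    (hg : ¬ p ∣ orderOf g) {m : ℕ} (hm : m.Coprime (Nat.card G)) :
    (θ : G → ℂ) (g ^ m) = (θ : G → ℂ) g := by
  classical
  haveI := Fintype.ofFinite G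
  have hp : p.Prime := Fact.out
  set θ' : Cfsg.IrrCharacter G :=
    ⟨fun g => (θ : G → ℂ) (g ^ m), OddChar.PowTwist.isIrr_comp_pow θ.2 hm⟩ with hθ'
  have hval : ∀ g, (θ' : G → ℂ) g = (θ : G → ℂ) (g ^ m) := fun g => rfl
  have hdeg : deg θ' = deg θ := by
    have : (deg θ' : ℂ) = deg θ := by rw [deg_cast, deg_cast, hval, one_pow]
    exact_mod_cast this
  obtain ⟨x, hx1, hxP⟩ : ∃ x, x ≠ 1 ∧ x ∈ (P : Subgroup G) := by
    haveI : Nontrivial (P : Subgroup G) := Finite.one_lt_card_iff_nontrivial.1 (by rw [D.card_P]; exact hp.one_lt)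
    obtain ⟨x, hx⟩ := exists_ne (1 : (P : Subgroup G))
    exact ⟨x, fun e => hx (Subtype.ext e), x.2⟩
  have hmem : θ' ∈ Cfsg.principalBlock D.M G := by
    by_contra hn
    have h0 := D.eq_zero_of_notMem hC hn hxP hx1
    have hc := char_cong_of_commute D.hM θ (Commute.one_right (x ^ m)) (k := 1)
      (by rw [pow_one, D.x_pow (pow_mem hxP m)]) (not_dvd_one (G := G))
    rw [mul_one, ← hval, h0, ← deg_cast] at hc
    have hd := (ideal_natCast_iff D.hM _).1 (cong_zero_iff.1 (cong_symm D.hM hc))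
    exact absurd (Nat.le_of_dvd (by omega) hd) (by omega)
  rcases (D.mem_block _).1 hmem with hX | hY
  · exfalso
    have h := Int.modEq_iff_dvd.1 (D.deg_X θ' hX)
    rw [hdeg] at h
    obtain ⟨c, hc⟩ := h
    rcases D.sgn_eq θ' hX with e | e <;> rw [e] at hc
    · rcases lt_trichotomy c 0 with hc0 | rfl | hc0 <;> [nlinarith; omega; nlinarith]
    · rcases lt_trichotomy c (-1) with hc0 | rfl | hc0 <;> [nlinarith; omega; skip]
      rcases eq_or_lt_of_le (show (0 : ℤ) ≤ c by omega) with rfl | hc1 <;> [omega; nlinarith]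
  · exact D.same θ' hY θ hθ g hg

theorem PBlock.exists_int (hC : Nat.card (centralizer ((P : Subgroup G) : Set G)) = p)
    {θ : Cfsg.IrrCharacter G} (hθ : θ ∈ D.Y) (h1 : 1 < deg θ) (hlt : deg θ + 1 < p) {g : G}
    (hg : ¬ p ∣ orderOf g) : ∃ k : ℤ, (θ : G → ℂ) g = (k : ℂ) :=
  exists_int_of_pow_fixed (irr_isCharacter θ) fun _ hm => D.twist_eq hC hθ h1 hlt hg hm

end Cfsg.Agent.PrimeBlock
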