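import Cfsg.Agent.Lib.PrimeBlock.Bound
import Cfsg.Agent.BlockCharsA.DefectZeroVanish
import Cfsg.Agent.BlocksChars.PQBlocks
import Cfsg.Agent.Lib.SmallSimple.Centralize

/-!
# Tests on the degrees in the principal block of a simple group
-/

set_option linter.style.haveILetI false
set_option linter.unusedSectionVars false

namespace Cfsg.Agent.PrimeBlock

open Cfsg.Agent.Characters Cfsg.Agent.Blocks Subgroup
open scoped ComplexConjugate

universe u

variable {G : Type u} [Group G] [Finite G]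

theorem deg_sq_lt [IsSimpleGroup G] {χ : Cfsg.IrrCharacter G} (hχ : χ ≠ trivIrr G) :
    deg χ * deg χ < Nat.card G := by
  classical
  haveI := Fintype.ofFinite (Cfsg.IrrCharacter G)
  have h := sum_degree_sq (G := G)
  simp only [← deg_cast] at h
  have h1 : (deg χ : ℂ) ^ 2 = ((deg χ * deg χ : ℕ) : ℂ) := by push_cast; ring
  have h' : ∑ ψ : Cfsg.IrrCharacter G, (deg ψ * deg ψ) = Nat.card G := by
    apply Nat.cast_injective (R := ℂ)
    rw [Nat.cast_sum, ← h]
    exact Finset.sum_congr rfl fun ψ _ => by push_cast; ring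
  rw [← h', ← Finset.add_sum_erase _ _ (Finset.mem_univ (trivIrr G)), deg_trivIrr, one_mul]
  have := Finset.single_le_sum (f := fun ψ => deg ψ * deg ψ) (fun ψ _ => Nat.zero_le _)
    (Finset.mem_erase.2 ⟨hχ, Finset.mem_univ χ⟩)
  omega

variable {p : ℕ} [Fact p.Prime]

/-- Conjugate Sylow subgroups have centralizers of the same order. -/
theorem card_centralizer_sylow (P Q : Sylow p G) :
    Nat.card (centralizer ((Q : Subgroup G) : Set G)) =
      Nat.card (centralizer ((P : Subgroup G) : Set G)) := by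
  obtain ⟨a, rfl⟩ := MulAction.exists_smul_eq G P Q
  rw [← Blocks.card_map_conj (centralizer ((P : Subgroup G) : Set G)) a]
  congr 2
  ext y
  constructor
  · intro hy
    refine ⟨a⁻¹ * y * a, mem_centralizer_iff.2 fun z hz => ?_, by simp [mul_assoc]⟩
    have := mem_centralizer_iff.1 hy (a * z * a⁻¹) (by
      rw [Sylow.coe_subgroup_smul]
      exact ⟨z, hz, rfl⟩)
    calc z * (a⁻¹ * y * a) = a⁻¹ * (a * z * a⁻¹ * y) * a := by group
      _ = a⁻¹ * (y * (a * z * a⁻¹)) * a := by rw [this]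
      _ = _ := by group
  · rintro ⟨w, hw, rfl⟩
    refine mem_centralizer_iff.2 fun z hz => ?_
    rw [Sylow.coe_subgroup_smul] at hz
    obtain ⟨v, hv, rfl⟩ := hz
    show a * v * a⁻¹ * (a * w * a⁻¹) = a * w * a⁻¹ * (a * v * a⁻¹)
    calc a * v * a⁻¹ * (a * w * a⁻¹) = a * (v * w) * a⁻¹ := by group
      _ = a * (w * v) * a⁻¹ := by rw [mem_centralizer_iff.1 hw v hv]
      _ = _ := by group

/-- The normalisation with the trivial character in `X`. -/
theorem exists_pblock' [IsSimpleGroup G] (hG : ¬ IsMulCommutative G) (hodd : p ≠ 2) (P : Sylow p G)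
    (hP : Nat.card (P : Subgroup G) = p) :
    ∃ D : PBlock P, trivIrr G ∈ D.X ∧ D.sgn (trivIrr G) = 1 := by
  classical
  obtain ⟨D⟩ := exists_pblock hodd P hP
  obtain ⟨x, hx1, hx⟩ := D.exists_ne_one
  by_cases ht : trivIrr G ∈ D.X
  · refine ⟨D, ht, ?_⟩
    have := D.val_X' ht hx hx1
    simp only [trivIrr_coe] at this
    exact_mod_cast this.symm
  have htY : trivIrr G ∈ D.Y := D.trivIrr_mem.resolve_left ht
  have hY : D.Y = {trivIrr G} := by
    refine Finset.eq_singleton_iff_unique_mem.2 ⟨htY, fun θ hθ => ?_⟩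
    by_contra hne
    exact deg_ne_one hG hne ((D.deg_Y_eq hθ htY).trans deg_trivIrr)
  have hcard := D.card_Y
  rw [hY, Finset.card_singleton] at hcard
  have he : D.e = p - 1 := by
    have := Nat.div_mul_cancel D.e_dvd
    rw [← hcard, one_mul] at this
    exact this
  have hε : D.ε = -1 := by
    have := D.sum_Y hx hx1
    rw [hY, Finset.sum_singleton] at this
    simp only [trivIrr_coe] at this
    have h : ((1 : ℤ) : ℂ) = ((-D.ε : ℤ) : ℂ) := by push_cast; exact this
    have := Int.cast_injective h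
    omega
  obtain ⟨a, ha⟩ : D.X.Nonempty := Finset.card_pos.1 (by rw [D.card_X]; exact D.e_pos)
  have hat : a ≠ trivIrr G := fun e => ht (e ▸ ha)
  refine ⟨{ D with
    X := insert (trivIrr G) (D.X.erase a)
    Y := {a}
    sgn := Function.update D.sgn (trivIrr G) 1
    ε := -D.sgn a
    mem_block := fun χ => ?_
    disj := ?_
    card_X := ?_
    card_Y := by rw [Finset.card_singleton]; exact hcard
    sgn_eq := fun χ hχ => ?_
    deg_X := fun χ hχ => ?_
    val_X := fun χ hχ y hy hy1 z hz hzr => ?_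
    ε_eq := by rcases D.sgn_eq a ha with e | e <;> omega
    deg_Y := fun θ hθ => ?_
    same := fun θ hθ θ' hθ' g _ => by
      rw [Finset.mem_singleton.1 hθ, Finset.mem_singleton.1 hθ']
    rel := fun θ hθ g hg => ?_ }, Finset.mem_insert_self _ _, Function.update_self ..⟩
  · rw [D.mem_block, hY, Finset.mem_singleton, Finset.mem_insert, Finset.mem_erase,
      Finset.mem_singleton]
    constructor
    · rintro (h | h)
      · exact (em (χ = a)).elim Or.inr fun h' => Or.inl (Or.inr ⟨h', h⟩)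
      · exact Or.inl (Or.inl h)
    · rintro ((h | h) | h)
      · exact Or.inr h
      · exact Or.inl h.2
      · exact Or.inl (h ▸ ha)
  · simp [hat]
  · rw [Finset.card_insert_of_notMem (fun h => ht (Finset.mem_erase.1 h).2),
      Finset.card_erase_of_mem ha, D.card_X]
    have := D.e_pos
    omega
  · rcases Finset.mem_insert.1 hχ with rfl | h
    · exact Or.inl (Function.update_self ..)
    · rw [Function.update_of_ne fun e : χ = trivIrr G => ht (e ▸ (Finset.mem_erase.1 h).2)]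
      exact D.sgn_eq χ (Finset.mem_erase.1 h).2
  · rcases Finset.mem_insert.1 hχ with rfl | h
    · rw [Function.update_self, deg_trivIrr]; rfl
    · rw [Function.update_of_ne fun e : χ = trivIrr G => ht (e ▸ (Finset.mem_erase.1 h).2)]
      exact D.deg_X χ (Finset.mem_erase.1 h).2
  · rcases Finset.mem_insert.1 hχ with rfl | h
    · simp [trivIrr_coe]
    · rw [Function.update_of_ne fun e : χ = trivIrr G => ht (e ▸ (Finset.mem_erase.1 h).2)]
      exact D.val_X χ (Finset.mem_erase.1 h).2 y hy hy1 z hz hzr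
  · rw [Finset.mem_singleton.1 hθ]
    have h := D.deg_X a ha
    refine h.trans (Int.modEq_iff_dvd.2 ⟨-D.sgn a, ?_⟩)
    rw [he, Nat.cast_sub (Fact.out : p.Prime).one_le]
    push_cast
    ring
  · rw [Finset.mem_singleton.1 hθ, Finset.sum_insert fun h => ht (Finset.mem_erase.1 h).2,
      Function.update_self, Finset.sum_congr rfl fun χ hχ => by
        rw [Function.update_of_ne fun e : χ = trivIrr G => ht (e ▸ (Finset.mem_erase.1 hχ).2)]]
    have h := D.rel (trivIrr G) htY g hg
    rw [hε, ← Finset.add_sum_erase _ _ ha] at h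
    simp only [trivIrr_coe] at h ⊢
    push_cast at h ⊢
    linear_combination h

variable {P : Sylow p G} (D : PBlock P)
include D

/-- No member of the block has full degree at a prime dividing `|C(P)|`. -/
theorem PBlock.not_full {q : ℕ} (hq : q.Prime) (hqp : q ≠ p)
    (hqC : q ∣ Nat.card (centralizer ((P : Subgroup G) : Set G))) {χ : Cfsg.IrrCharacter G}
    (hχ : χ ∈ Cfsg.principalBlock D.M G) : ¬ q ^ (Nat.card G).factorization q ∣ deg χ := by
  intro hd
  haveI := Fact.mk hq
  have hp : p.Prime := Fact.out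
  obtain ⟨⟨u, hu⟩, huo⟩ := exists_prime_orderOf_dvd_card' (G := centralizer ((P : Subgroup G) : Set G)) q hqC
  rw [orderOf_mk] at huo
  obtain ⟨x, hx1, hx⟩ := D.exists_ne_one
  have hur : ¬ p ∣ orderOf u := by rw [huo]; exact fun h => hqp ((Nat.prime_dvd_prime_iff_eq hp hq).1 h).symm
  have hcomm : Commute x u := mem_centralizer_iff.1 hu x hx
  have hxu : q ∣ orderOf (x * u) := by
    rw [hcomm.orderOf_mul_eq_mul_orderOf_of_coprime (by
      rw [D.orderOf_eq hx hx1, huo]; exact (Nat.coprime_primes hp hq).2 (Ne.symm hqp)), huo]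
    exact dvd_mul_left _ _
  rcases (D.mem_block χ).1 hχ with h | h
  · have h0 := BlockCharsA.DefectZeroVanish.eq_zero_of_singular hq χ hd hxu
    rw [D.val_X χ h x hx hx1 u hu hur] at h0
    rcases D.sgn_eq χ h with e | e <;> rw [e] at h0 <;> norm_num at h0
  · have h0 : ∑ θ ∈ D.Y, (θ : G → ℂ) (x * u) = 0 := Finset.sum_eq_zero fun θ hθ =>
      BlockCharsA.DefectZeroVanish.eq_zero_of_singular hq θ
        (show q ^ (Nat.card G).factorization q ∣ deg θ by rw [D.deg_Y_eq hθ h]; exact hd) hxu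
    rw [Finset.sum_congr rfl fun θ hθ => D.value_mul ((D.mem_block θ).2 (Or.inr hθ)) hx hx1 hu hur,
      D.sum_Y hx hx1] at h0
    rcases D.ε_eq with e | e <;> rw [e] at h0 <;> norm_num at h0

theorem PBlock.no_pq {q : ℕ} (hq : q.Prime) (hqp : q ≠ p)
    (hqC : ¬ q ∣ Nat.card (centralizer ((P : Subgroup G) : Set G))) (g : G) : orderOf g ≠ p * q := by
  intro hg
  have hp : p.Prime := Fact.out
  have ho : orderOf (g ^ q) = p := by
    rw [orderOf_pow_of_dvd hq.ne_zero (hg ▸ dvd_mul_left _ _), hg, Nat.mul_div_cancel _ hq.pos]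
  obtain ⟨Q, hQ⟩ := (IsPGroup.of_card (p := p) (n := 1)
    (by rw [Nat.card_zpowers, ho, pow_one]) : IsPGroup p (zpowers (g ^ q))).exists_le_sylow
  have hQe : zpowers (g ^ q) = (Q : Subgroup G) := eq_of_le_of_card_ge hQ (by
    rw [Nat.card_zpowers, ho, Q.card_eq_multiplicity, ← P.card_eq_multiplicity, D.card_P])
  have hmem : g ∈ centralizer ((Q : Subgroup G) : Set G) := by
    rw [← hQe, zpowers_eq_closure, centralizer_closure, mem_centralizer_singleton_iff]
    exact (Commute.self_pow g q).eq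
  refine hqC ((card_centralizer_sylow P Q) ▸ ?_)
  exact (show q ∣ orderOf g from hg ▸ dvd_mul_left _ _).trans
    (orderOf_mk g hmem ▸ orderOf_dvd_natCard _)

/-- When `q` does not divide `|C(P)|`, the principal blocks at `p` and `q` share a character of
degree prime to `q`, not a power of `q`. -/
theorem PBlock.exists_common [IsSimpleGroup G] (hG : ¬ IsMulCommutative G) {q : ℕ} (hq : q.Prime)
    (hqp : q ≠ p) (hqG : q ∣ Nat.card G)
    (hqC : ¬ q ∣ Nat.card (centralizer ((P : Subgroup G) : Set G)))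
    {Mq : Ideal Cfsg.AlgInt} (hMq : Cfsg.IsPModular q Mq) :
    ∃ χ, χ ∈ Cfsg.principalBlock D.M G ∧ χ ∈ Cfsg.principalBlock Mq G ∧ χ ≠ trivIrr G ∧
      ¬ q ∣ deg χ ∧ ∀ k, deg χ ≠ q ^ k := by
  classical
  obtain ⟨x, hx1, hx⟩ := D.exists_ne_one
  have hna : ∃ a b : G, a * b ≠ b * a := by
    by_contra h
    push Not at h
    exact hG ⟨⟨h⟩⟩
  by_contra hcon
  push Not at hcon
  obtain ⟨ω, hω⟩ := BlocksChars.PQBlocks.pq_block_sum (Ne.symm hqp) D.hM hMq (D.no_pq hq hqp hqC)
    (b := (Nat.card G).factorization q) rfl (isPBlock_principal D.M G) (isPBlock_principal Mq G)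
    (y := x) (by rw [D.orderOf_eq hx hx1])
  set S := (Set.toFinite (Cfsg.principalBlock D.M G ∩ Cfsg.principalBlock Mq G)).toFinset with hS
  rw [finsum_mem_eq_finite_toFinset_sum _ (Set.toFinite _), ← hS] at hω
  have ht : trivIrr G ∈ S := by
    simp [S, trivIrr_mem_principal D.hM, trivIrr_mem_principal hMq]
  rw [← Finset.add_sum_erase _ _ ht] at hω
  have hint : IsIntegral ℤ (∑ χ ∈ S.erase (trivIrr G),
      ((deg χ / q : ℕ) : ℂ) * (χ : G → ℂ) x) := IsIntegral.sum _ fun χ _ =>
    (isIntegral_natCast _).mul (char_value_isIntegral (irr_isCharacter χ) x)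
  have hdiv : ∑ χ ∈ S.erase (trivIrr G), (Cfsg.charDegree (χ : G → ℂ) : ℂ) * (χ : G → ℂ) x =
      (q : ℂ) * ∑ χ ∈ S.erase (trivIrr G), ((deg χ / q : ℕ) : ℂ) * (χ : G → ℂ) x := by
    rw [Finset.mul_sum]
    refine Finset.sum_congr rfl fun χ hχ => ?_
    have hmem := (Finset.mem_erase.1 hχ)
    simp only [S, Set.Finite.mem_toFinset, Set.mem_inter_iff] at hmem
    have hqd : q ∣ deg χ := by
      by_contra hnd
      obtain ⟨k, hk⟩ := hcon χ hmem.2.1 hmem.2.2 hmem.1 hnd
      refine hmem.1 (eq_trivIrr_of_degree_pow hMq hna hmem.2.2 (k := k) ?_)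
      rw [← deg_cast, hk, Nat.cast_pow]
    rw [← mul_assoc, ← Nat.cast_mul, Nat.mul_div_cancel' hqd]
  rw [hdiv] at hω
  simp only [trivIrr_coe, mul_one] at hω
  rw [show Cfsg.charDegree ((fun _ : G => (1 : ℂ))) = 1 by simp [Cfsg.charDegree], Nat.cast_one] at hω
  obtain ⟨b, hb⟩ : ∃ b, (Nat.card G).factorization q = b + 1 := Nat.exists_eq_succ_of_ne_zero
    (hq.factorization_pos_of_dvd Nat.card_pos.ne' hqG).ne'
  have hone : ((1 : ℕ) : ℂ) = (q : ℂ) * ((q : ℂ) ^ b * (ω : ℂ) -
      ∑ χ ∈ S.erase (trivIrr G), ((deg χ / q : ℕ) : ℂ) * (χ : G → ℂ) x) := by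
    rw [hb] at hω
    push_cast
    linear_combination hω
  have := BlocksChars.Degrees.dvd_of_natCast_eq_mul
    (((isIntegral_natCast q).pow b |>.mul ω.2).sub hint) hone
  exact hq.ne_one (Nat.dvd_one.1 this)

/-- Every non-trivial member has degree in the list of candidates. -/
theorem PBlock.exists_signed [IsSimpleGroup G] (hG : ¬ IsMulCommutative G) (ht : trivIrr G ∈ D.X)
    (hts : D.sgn (trivIrr G) = 1) :
    ∃ (L : List ℤ) (f : ℕ), L.length = D.e - 1 ∧
      (∀ z ∈ L, ∃ χ, χ ∈ D.X ∧ χ ≠ trivIrr G ∧ z = D.sgn χ * (deg χ : ℤ)) ∧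
      (∃ θ ∈ D.Y, deg θ = f ∧ θ ≠ trivIrr G) ∧ D.ε * (f : ℤ) = 1 + L.sum := by
  classical
  obtain ⟨θ, hθ⟩ := D.Y_nonempty
  refine ⟨(D.X.erase (trivIrr G)).toList.map fun χ => D.sgn χ * (deg χ : ℤ), deg θ, ?_, ?_,
    ⟨θ, hθ, rfl, fun e => Finset.disjoint_left.1 D.disj ht (e ▸ hθ)⟩, ?_⟩
  · rw [List.length_map, Finset.length_toList, Finset.card_erase_of_mem ht, D.card_X]
  · intro z hz
    obtain ⟨χ, hχ, rfl⟩ := List.mem_map.1 hz
    rw [Finset.mem_toList, Finset.mem_erase] at hχ
    exact ⟨χ, hχ.2, hχ.1, rfl⟩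
  · rw [D.rel_one hθ, ← Finset.add_sum_erase _ _ ht, hts, deg_trivIrr, Finset.sum_map_toList]
    simp

end Cfsg.Agent.PrimeBlock
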