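import Mathlib
import Cfsg.Prelude.Def_Characters
import Cfsg.Agent.Lib.Characters.Basic

/-!
# Eigenvalues of an element of prime order and a commuting element
-/

set_option linter.style.haveILetI false
set_option linter.unusedSectionVars false

namespace Cfsg.Agent.PrimeBlock

open Cfsg.Agent.Characters
open scoped ComplexConjugate

variable {G : Type*} [Group G] [Finite G] {χ : G → ℂ}

theorem sum_pow_div {p : ℕ} (hp : p ≠ 0) {z μ : ℂ} (hz : z ^ p = 1) (hμ : μ ^ p = 1) :
    ∑ i ∈ Finset.range p, (z / μ) ^ i = if z = μ then (p : ℂ) else 0 := by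
  have hμ0 : μ ≠ 0 := by
    rintro rfl
    rw [zero_pow hp] at hμ
    exact zero_ne_one hμ
  split_ifs with h
  · simp [h, div_self hμ0]
  · rw [geom_sum_eq (fun h1 => h ((div_eq_one_iff_eq hμ0).1 h1)), div_pow, hz, hμ]
    simp

/-- Simultaneous eigenvalues of `x` of order `p` and a commuting element `k` of order prime to `p`. -/
theorem exists_eigen (h : Cfsg.IsCharacter G χ) {p : ℕ} {x k : G} (hx : x ^ p = 1)
    (hxk : Commute x k) (hcop : Nat.Coprime p (orderOf k)) :
    ∃ (n : ℕ) (z w : Fin n → ℂ), χ 1 = (n : ℂ) ∧ (∀ l, z l ^ p = 1) ∧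
      ∀ i : ℕ, χ (x ^ i) = ∑ l, z l ^ i ∧ χ (x ^ i * k) = ∑ l, z l ^ i * w l := by
  obtain ⟨n, ρ, rfl⟩ := h
  obtain ⟨v, hv, hsum⟩ := exists_rootsOfUnity_sum ρ (x * k)
  obtain ⟨c, hc1, hc0⟩ := Nat.chineseRemainder hcop 1 0
  obtain ⟨d, hd0, hd1⟩ := Nat.chineseRemainder hcop 0 1
  have hxpow : ∀ {a b : ℕ}, a ≡ b [MOD p] → x ^ a = x ^ b := fun h =>
    pow_eq_pow_iff_modEq.2 (h.of_dvd (orderOf_dvd_of_pow_eq_one hx))
  have hkpow : ∀ {a b : ℕ}, a ≡ b [MOD orderOf k] → k ^ a = k ^ b := fun h =>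
    pow_eq_pow_iff_modEq.2 h
  have hgc : (x * k) ^ c = x := by
    rw [hxk.mul_pow, hxpow hc1, hkpow hc0, pow_one, pow_zero, mul_one]
  have hgd : (x * k) ^ d = k := by
    rw [hxk.mul_pow, hxpow hd0, hkpow hd1, pow_one, pow_zero, one_mul]
  refine ⟨_, fun l => v l ^ c, fun l => v l ^ d, ρ.char_one, fun l => ?_, fun i => ⟨?_, ?_⟩⟩
  · rw [← pow_mul]
    have hd : orderOf (x * k) ∣ c * p := orderOf_dvd_of_pow_eq_one (by rw [pow_mul, hgc, hx])
    obtain ⟨m, hm⟩ := hd
    rw [hm, pow_mul, hv, one_pow]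
  · conv_lhs => rw [← hgc, ← pow_mul, hsum]
    exact Finset.sum_congr rfl fun l _ => by rw [pow_mul]
  · conv_lhs => rw [← hgd, show x ^ i = ((x * k) ^ c) ^ i by rw [hgc], ← pow_mul, ← pow_add, hsum]
    exact Finset.sum_congr rfl fun l _ => by rw [pow_add, pow_mul]

/-- A character of degree below `p` that does not tell `x k` from `x` has `k` in its kernel. -/
theorem eq_one_of_deg_lt (h : Cfsg.IsCharacter G χ) {p n : ℕ} (hn : χ 1 = (n : ℂ)) (hnp : n < p)
    {x k : G} (hx : x ^ p = 1) (hxk : Commute x k) (hcop : Nat.Coprime p (orderOf k))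
    (hval : ∀ i : ℕ, ¬ p ∣ i → χ (x ^ i * k) = χ (x ^ i)) : χ k = χ 1 := by
  classical
  obtain ⟨n', z, w, hn', hz, hsum⟩ := exists_eigen h hx hxk hcop
  obtain rfl : n' = n := by exact_mod_cast hn'.symm.trans hn
  have hp : p ≠ 0 := by omega
  obtain ⟨ζ, hζ⟩ : ∃ ζ : ℂ, IsPrimitiveRoot ζ p := ⟨_, Complex.isPrimitiveRoot_exp p hp⟩
  obtain ⟨μ, hμ, hμz⟩ : ∃ μ : ℂ, μ ^ p = 1 ∧ ∀ l, z l ≠ μ := by
    by_contra hcon
    push Not at hcon
    have hall : ∀ i : Fin p, ∃ l, z l = ζ ^ (i : ℕ) := fun i =>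
      hcon _ (by rw [← pow_mul, mul_comm, pow_mul, hζ.pow_eq_one, one_pow])
    choose f hf using hall
    have hinj : Function.Injective f := fun a b e =>
      Fin.ext (hζ.pow_inj a.2 b.2 (by rw [← hf a, ← hf b, e]))
    have := Fintype.card_le_of_injective f hinj
    simp only [Fintype.card_fin] at this
    omega
  have h0 := hsum 0
  simp only [pow_zero, one_mul] at h0
  have key : ∑ i ∈ Finset.range p, μ⁻¹ ^ i * (χ (x ^ i * k) - χ (x ^ i)) = 0 := by
    simp only [(hsum _).1, (hsum _).2, ← Finset.sum_sub_distrib, Finset.mul_sum]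
    rw [Finset.sum_comm]
    refine Finset.sum_eq_zero fun l _ => ?_
    have hs := sum_pow_div hp (hz l) hμ
    rw [if_neg (hμz l)] at hs
    calc ∑ i ∈ Finset.range p, μ⁻¹ ^ i * (z l ^ i * w l - z l ^ i)
        = (∑ i ∈ Finset.range p, (z l / μ) ^ i) * (w l - 1) := by
          rw [Finset.sum_mul]
          exact Finset.sum_congr rfl fun i _ => by rw [div_eq_mul_inv, mul_pow]; ring
      _ = 0 := by rw [hs, zero_mul]
  rw [Finset.sum_eq_single 0 (fun i hi hi0 => by
      rw [hval i fun hd => absurd (Nat.le_of_dvd (Nat.pos_of_ne_zero hi0) hd)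
        (by have := Finset.mem_range.1 hi; omega), sub_self, mul_zero])
      (fun h' => absurd (Finset.mem_range.2 (Nat.pos_of_ne_zero hp)) h')] at key
  rw [pow_zero, pow_zero, one_mul, one_mul, sub_eq_zero] at key
  exact key

/-- The number of coincidences among the eigenvalues of `x`. -/
theorem card_pairs (h : Cfsg.IsCharacter G χ) {p : ℕ} (hp : p ≠ 0) {x : G} (hx : x ^ p = 1) :
    ∃ (n N : ℕ), χ 1 = (n : ℂ) ∧ n ≤ N ∧
      ∑ i ∈ Finset.range p, χ (x ^ i) * conj (χ (x ^ i)) = (p : ℂ) * N := by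
  classical
  obtain ⟨n, z, w, hn, hz, hsum⟩ := exists_eigen h hx (Commute.one_right x) (by simp)
  refine ⟨n, (Finset.univ.filter fun q : Fin n × Fin n => z q.1 = z q.2).card, hn, ?_, ?_⟩
  · refine le_trans ?_ (Finset.card_le_card (s := Finset.univ.image fun l : Fin n => (l, l)) ?_)
    · rw [Finset.card_image_of_injective _ fun a b e => (Prod.ext_iff.1 e).1]; simp
    · intro q hq
      obtain ⟨l, -, rfl⟩ := Finset.mem_image.1 hq
      simp
  · simp only [(hsum _).1, map_sum, map_pow, Finset.sum_mul_sum]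
    rw [Finset.sum_comm]
    rw [Finset.sum_congr rfl fun l _ => Finset.sum_comm]
    have hterm : ∀ l m : Fin n, ∑ i ∈ Finset.range p, z l ^ i * conj (z m) ^ i =
        if z l = z m then (p : ℂ) else 0 := fun l m => by
      rw [← sum_pow_div hp (hz l) (hz m)]
      refine Finset.sum_congr rfl fun i _ => ?_
      rw [div_eq_mul_inv, Complex.inv_eq_conj (Complex.norm_eq_one_of_pow_eq_one (hz m) hp), mul_pow]
    simp only [hterm]
    rw [← Finset.sum_product' (f := fun l m => if z l = z m then (p : ℂ) else 0),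
      ← Finset.sum_filter, Finset.sum_const, nsmul_eq_mul, mul_comm]
    rfl

/-- The multiplicity of the eigenvalue `1`. -/
theorem sum_powers (h : Cfsg.IsCharacter G χ) {p : ℕ} (hp : p ≠ 0) {x : G} (hx : x ^ p = 1) :
    ∃ m : ℕ, ∑ i ∈ Finset.range p, χ (x ^ i) = (p : ℂ) * m := by
  classical
  obtain ⟨n, z, w, hn, hz, hsum⟩ := exists_eigen h hx (Commute.one_right x) (by simp)
  refine ⟨(Finset.univ.filter fun l => z l = 1).card, ?_⟩
  simp only [(hsum _).1]
  rw [Finset.sum_comm, Finset.card_filter, Nat.cast_sum, Finset.mul_sum]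
  refine Finset.sum_congr rfl fun l _ => ?_
  have := sum_pow_div hp (hz l) (one_pow p)
  simp only [div_one] at this
  rw [this]
  split_ifs <;> simp

end Cfsg.Agent.PrimeBlock
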