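import Cfsg.Agent.Lib.Blocks.PrimeSylow
import Cfsg.Agent.Lib.Blocks.Rationality
import Cfsg.Agent.BlockCharsA.DefectZeroVanish
import Cfsg.Agent.Lib.PrimeBlock.Eigen

/-!
# The principal block at a prime dividing the order once
-/

set_option linter.style.haveILetI false
set_option linter.unusedSectionVars false

namespace Cfsg.Agent.PrimeBlock

open Cfsg.Agent.Characters Cfsg.Agent.Blocks Subgroup
open scoped ComplexConjugate

universe u

variable {G : Type u} [Group G] [Finite G] {p : ℕ} [Fact p.Prime]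

/-- The degree of an irreducible character. -/
noncomputable abbrev deg (χ : Cfsg.IrrCharacter G) : ℕ := Cfsg.charDegree (χ : G → ℂ)

/-- Brauer's description of the principal block, as one object. -/
structure PBlock (P : Sylow p G) where
  M : Ideal Cfsg.AlgInt
  hM : Cfsg.IsPModular p M
  card_P : Nat.card (P : Subgroup G) = p
  odd : p ≠ 2
  e : ℕ
  he : (centralizer ((P : Subgroup G) : Set G)).relIndex (normalizer ((P : Subgroup G) : Set G)) = e
  X : Finset (Cfsg.IrrCharacter G)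
  Y : Finset (Cfsg.IrrCharacter G)
  mem_block : ∀ χ, χ ∈ Cfsg.principalBlock M G ↔ χ ∈ X ∨ χ ∈ Y
  disj : Disjoint X Y
  card_X : X.card = e
  card_Y : Y.card = (p - 1) / e
  sgn : Cfsg.IrrCharacter G → ℤ
  ε : ℤ
  sgn_eq : ∀ χ ∈ X, sgn χ = 1 ∨ sgn χ = -1
  deg_X : ∀ χ ∈ X, (deg χ : ℤ) ≡ sgn χ [ZMOD p]
  val_X : ∀ χ ∈ X, ∀ x : G, x ∈ (P : Subgroup G) → x ≠ 1 →
    ∀ y : G, y ∈ centralizer ((P : Subgroup G) : Set G) → ¬ p ∣ orderOf y →
      (χ : G → ℂ) (x * y) = (sgn χ : ℂ)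
  ε_eq : ε = 1 ∨ ε = -1
  deg_Y : ∀ θ ∈ Y, (deg θ : ℤ) ≡ ε * (e : ℤ) [ZMOD p]
  same : ∀ θ ∈ Y, ∀ θ' ∈ Y, ∀ g : G, ¬ p ∣ orderOf g → (θ : G → ℂ) g = (θ' : G → ℂ) g
  rel : ∀ θ ∈ Y, ∀ g : G, ¬ p ∣ orderOf g →
    (ε : ℂ) * (θ : G → ℂ) g = ∑ χ ∈ X, (sgn χ : ℂ) * (χ : G → ℂ) g

theorem exists_pblock (hodd : p ≠ 2) (P : Sylow p G) (hP : Nat.card (P : Subgroup G) = p) :
    Nonempty (PBlock P) := by
  classical
  obtain ⟨M, hM⟩ := BlockCharsA.DefectZeroVanish.exists_modular (Fact.out : p.Prime)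
  obtain ⟨X, Y, hB, hd, hX, hY, s, ε, h1, h2, h3, h4, h5⟩ := principal_structure hM hodd P hP _ rfl
  refine ⟨{
    M := M, hM := hM, card_P := hP, odd := hodd, e := _, he := rfl
    X := (Set.toFinite X).toFinset, Y := (Set.toFinite Y).toFinset
    mem_block := fun χ => by rw [hB]; simp
    disj := by simpa using hd
    card_X := by rw [← hX, Nat.card_eq_card_finite_toFinset]
    card_Y := by rw [← hY, Nat.card_eq_card_finite_toFinset]
    sgn := s, ε := ε
    sgn_eq := fun χ hχ => (h1 χ (by simpa using hχ)).1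
    deg_X := fun χ hχ => (h1 χ (by simpa using hχ)).2.1
    val_X := fun χ hχ => (h1 χ (by simpa using hχ)).2.2
    ε_eq := h2
    deg_Y := fun θ hθ => h3 θ (by simpa using hθ)
    same := fun θ hθ θ' hθ' => h4 θ (by simpa using hθ) θ' (by simpa using hθ')
    rel := fun θ hθ g hg => by
      rw [h5 θ (by simpa using hθ) g hg, finsum_mem_eq_finite_toFinset_sum _ (Set.toFinite X)] }⟩

theorem deg_cast (χ : Cfsg.IrrCharacter G) : (deg χ : ℂ) = (χ : G → ℂ) 1 := charDegree_cast χ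

theorem not_dvd_one : ¬ p ∣ orderOf (1 : G) := by simp [(Fact.out : p.Prime).ne_one]

theorem deg_trivIrr : deg (trivIrr G) = 1 := by simp [deg, Cfsg.charDegree]

variable {P : Sylow p G} (D : PBlock P)
include D

theorem PBlock.e_dvd : D.e ∣ p - 1 := by
  obtain ⟨g, K, h, u, hD⟩ := exists_primeData P D.card_P
  rw [← D.he, ← hD.order_u]
  exact ZMod.orderOf_units_dvd_card_sub_one u

theorem PBlock.two_lt : 2 < p := by
  have := (Fact.out : p.Prime).two_le; have := D.odd; omega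

theorem PBlock.e_pos : 0 < D.e := Nat.pos_of_dvd_of_pos D.e_dvd (by have := D.two_lt; omega)

theorem PBlock.e_lt : D.e < p := by
  have := Nat.le_of_dvd (by have := D.two_lt; omega) D.e_dvd
  have := D.two_lt
  omega

theorem PBlock.Y_nonempty : D.Y.Nonempty := Finset.card_pos.1 (by
  rw [D.card_Y]
  exact Nat.div_pos (by have := D.e_lt; omega) D.e_pos)

theorem PBlock.deg_Y_eq {θ θ' : Cfsg.IrrCharacter G} (h : θ ∈ D.Y) (h' : θ' ∈ D.Y) : deg θ = deg θ' := by
  have := D.same θ h θ' h' 1 not_dvd_one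
  rw [← deg_cast, ← deg_cast] at this
  exact_mod_cast this

theorem PBlock.rel_one {θ : Cfsg.IrrCharacter G} (h : θ ∈ D.Y) :
    D.ε * (deg θ : ℤ) = ∑ χ ∈ D.X, D.sgn χ * (deg χ : ℤ) := by
  have := D.rel θ h 1 not_dvd_one
  simp only [← deg_cast] at this
  exact_mod_cast this

theorem PBlock.trivIrr_mem : trivIrr G ∈ D.X ∨ trivIrr G ∈ D.Y :=
  (D.mem_block _).1 (trivIrr_mem_principal D.hM)

theorem PBlock.x_pow {x : G} (hx : x ∈ (P : Subgroup G)) : x ^ p = 1 := by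
  have := pow_card_eq_one' (G := (P : Subgroup G)) (x := ⟨x, hx⟩)
  rw [D.card_P] at this
  exact congrArg Subtype.val this

theorem PBlock.orderOf_eq {x : G} (hx : x ∈ (P : Subgroup G)) (hx1 : x ≠ 1) : orderOf x = p :=
  orderOf_eq_prime (D.x_pow hx) hx1

theorem PBlock.pow_ne_one {x : G} (hx : x ∈ (P : Subgroup G)) (hx1 : x ≠ 1) {i : ℕ} (hi : ¬ p ∣ i) :
    x ^ i ≠ 1 := fun e => hi (D.orderOf_eq hx hx1 ▸ orderOf_dvd_of_pow_eq_one e)

theorem PBlock.zpowers_eq {x : G} (hx : x ∈ (P : Subgroup G)) (hx1 : x ≠ 1) :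
    zpowers x = (P : Subgroup G) :=
  eq_of_le_of_card_ge (zpowers_le.2 hx) (by rw [Nat.card_zpowers, D.orderOf_eq hx hx1, D.card_P])

theorem PBlock.centralizer_eq {x : G} (hx : x ∈ (P : Subgroup G)) (hx1 : x ≠ 1) :
    centralizer ({x} : Set G) = centralizer ((P : Subgroup G) : Set G) := by
  rw [← centralizer_closure, ← zpowers_eq_closure, D.zpowers_eq hx hx1]

theorem PBlock.val_X' {χ : Cfsg.IrrCharacter G} (hχ : χ ∈ D.X) {x : G} (hx : x ∈ (P : Subgroup G))
    (hx1 : x ≠ 1) : (χ : G → ℂ) x = (D.sgn χ : ℂ) := by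
  simpa using D.val_X χ hχ x hx hx1 1 (one_mem _) not_dvd_one

theorem PBlock.sum_X_Y (f : Cfsg.IrrCharacter G → ℂ) :
    ∑ᶠ χ ∈ Cfsg.principalBlock D.M G, f χ = ∑ χ ∈ D.X, f χ + ∑ θ ∈ D.Y, f θ := by
  classical
  rw [finsum_mem_eq_finite_toFinset_sum _ (Set.toFinite _), ← Finset.sum_union D.disj]
  exact Finset.sum_congr (by ext; simp [D.mem_block]) fun _ _ => rfl

/-- The exceptional characters add up to `-ε` on `P`. -/
theorem PBlock.sum_Y {x : G} (hx : x ∈ (P : Subgroup G)) (hx1 : x ≠ 1) :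
    ∑ θ ∈ D.Y, (θ : G → ℂ) x = -(D.ε : ℂ) := by
  obtain ⟨θ₀, hθ₀⟩ := D.Y_nonempty
  have h := congrArg conj (sum_block_reg_sing D.hM
    (intEl_blockIdem D.hM (isPBlock_principal D.M G)) (x := (1 : G)) not_dvd_one
    (y := x) (by rw [D.orderOf_eq hx hx1]))
  rw [D.sum_X_Y, map_add, map_sum, map_sum, map_zero] at h
  simp only [map_mul, Complex.conj_conj, ← deg_cast, map_natCast] at h
  rw [Finset.sum_congr rfl fun χ hχ => by rw [D.val_X' hχ hx hx1],
    Finset.sum_congr (s₁ := D.Y) rfl fun θ hθ => by rw [D.deg_Y_eq hθ hθ₀], ← Finset.mul_sum] at h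
  have h2 : ∑ χ ∈ D.X, (deg χ : ℂ) * (D.sgn χ : ℂ) = (D.ε : ℂ) * (deg θ₀ : ℂ) := by
    have := congrArg (fun z : ℤ => (z : ℂ)) (D.rel_one hθ₀)
    push_cast at this
    rw [this]
    exact Finset.sum_congr rfl fun χ _ => mul_comm _ _
  rw [h2] at h
  refine mul_left_cancel₀ (Nat.cast_ne_zero.2 (charDegree_pos θ₀).ne' : (deg θ₀ : ℂ) ≠ 0) ?_
  linear_combination h

/-- The squared values on `P` add up to `p` over the principal block. -/
theorem PBlock.norm_block {x : G} (hx : x ∈ (P : Subgroup G)) (hx1 : x ≠ 1) :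
    ∑ᶠ χ ∈ Cfsg.principalBlock D.M G, (χ : G → ℂ) x * conj ((χ : G → ℂ) x) = (p : ℂ) := by
  classical
  obtain ⟨g, K, h, u, hD⟩ := exists_primeData P D.card_P
  haveI := Fintype.ofFinite (Cfsg.IrrCharacter G)
  rw [← hD.gen, ← mem_powers_iff_mem_zpowers] at hx
  obtain ⟨i, rfl⟩ := hx
  have hi : (i : ZMod p) ≠ 0 := fun h' => hx1 (by
    obtain ⟨d, rfl⟩ := (ZMod.natCast_eq_zero_iff _ _).1 h'
    simp only [pow_mul, ← hD.order, pow_orderOf_eq_one, one_pow])
  simp only [pow_eq_of_natCast hD.order (ZMod.natCast_rightInverse (i : ZMod p)).symm]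
  have := sum_section_values hD D.hM hi hi
  rw [if_pos ⟨1, one_mem _, by simp⟩] at this
  rw [finsum_mem_eq_finite_toFinset_sum _ (Set.toFinite _), ← this]
  exact Finset.sum_congr (by ext; simp) fun _ _ => rfl

theorem PBlock.norm_Y {x : G} (hx : x ∈ (P : Subgroup G)) (hx1 : x ≠ 1) :
    ∑ θ ∈ D.Y, (θ : G → ℂ) x * conj ((θ : G → ℂ) x) = (p : ℂ) - (D.e : ℂ) := by
  have h := D.norm_block hx hx1
  rw [D.sum_X_Y, Finset.sum_congr (s₁ := D.X) rfl (g := fun _ => (1 : ℂ)) fun χ hχ => show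
    (χ : G → ℂ) x * conj ((χ : G → ℂ) x) = 1 by
      rw [D.val_X' hχ hx hx1]
      rcases D.sgn_eq χ hχ with e | e <;> simp [e]] at h
  simp only [Finset.sum_const, D.card_X, nsmul_one] at h
  linear_combination h

/-- Members of the principal block do not tell `x k` from `x`. -/
theorem PBlock.value_mul {χ : Cfsg.IrrCharacter G} (hχ : χ ∈ Cfsg.principalBlock D.M G)
    {x k : G} (hx : x ∈ (P : Subgroup G)) (hx1 : x ≠ 1)
    (hk : k ∈ centralizer ((P : Subgroup G) : Set G)) (hkr : ¬ p ∣ orderOf k) :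
    (χ : G → ℂ) (x * k) = (χ : G → ℂ) x := by
  obtain ⟨g, K, h, u, hD⟩ := exists_primeData P D.card_P
  rw [← hD.gen, ← mem_powers_iff_mem_zpowers] at hx
  obtain ⟨i, rfl⟩ := hx
  exact value_mul_K hD D.hM hχ (fun hd => hx1 (by
    obtain ⟨d, rfl⟩ := hd
    simp only [pow_mul, ← hD.order, pow_orderOf_eq_one, one_pow]))
    ((hD.mem_iff k).2 ⟨hkr, hk⟩)

/-- If `P` is its own centralizer, characters outside the principal block vanish on it. -/
theorem PBlock.eq_zero_of_notMem (hC : Nat.card (centralizer ((P : Subgroup G) : Set G)) = p)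
    {χ : Cfsg.IrrCharacter G} (hχ : χ ∉ Cfsg.principalBlock D.M G) {x : G}
    (hx : x ∈ (P : Subgroup G)) (hx1 : x ≠ 1) : (χ : G → ℂ) x = 0 := by
  classical
  haveI := Fintype.ofFinite (Cfsg.IrrCharacter G)
  have h := second_orthogonality (G := G) x x
  rw [if_pos (IsConj.refl x), D.centralizer_eq hx hx1, hC,
    ← Finset.sum_filter_add_sum_filter_not Finset.univ (fun ψ => ψ ∈ Cfsg.principalBlock D.M G)] at h
  have h2 := D.norm_block hx hx1
  rw [finsum_mem_eq_finite_toFinset_sum _ (Set.toFinite _)] at h2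
  rw [show (Finset.univ.filter fun ψ => ψ ∈ Cfsg.principalBlock D.M G) =
    (Set.toFinite (Cfsg.principalBlock D.M G)).toFinset by ext; simp, h2] at h
  have h3 := congrArg Complex.re h
  simp only [Complex.add_re, Complex.re_sum, Complex.mul_conj, Complex.ofReal_re,
    add_eq_left] at h3
  exact Complex.normSq_eq_zero.1
    ((Finset.sum_eq_zero_iff_of_nonneg fun ψ _ => Complex.normSq_nonneg _).1 h3 χ (by simp [hχ]))

/-- A non-trivial member of the block has degree prime to any given prime. -/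
theorem PBlock.exists_deg_not_dvd {q : ℕ} (hq : 1 < q) :
    ∃ χ ∈ Cfsg.principalBlock D.M G, χ ≠ trivIrr G ∧ ¬ q ∣ deg χ := by
  classical
  obtain ⟨θ₀, hθ₀⟩ := D.Y_nonempty
  by_contra hcon
  push Not at hcon
  have hnd : ∀ c : ℤ, (c = 1 ∨ c = -1) → ¬ (q : ℤ) ∣ c := by
    rintro c (rfl | rfl) hd <;> have := Int.natCast_dvd.1 hd <;> norm_num at this <;> omega
  have hrel := D.rel_one hθ₀
  rcases D.trivIrr_mem with ht | ht
  · have hθne : θ₀ ≠ trivIrr G := fun e => Finset.disjoint_left.1 D.disj ht (e ▸ hθ₀)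
    rw [← Finset.add_sum_erase _ _ ht, deg_trivIrr, Nat.cast_one, mul_one] at hrel
    refine hnd _ (D.sgn_eq _ ht) ?_
    rw [← sub_eq_iff_eq_add] at hrel
    rw [← hrel]
    exact dvd_sub ((Int.natCast_dvd_natCast.2 (hcon θ₀ ((D.mem_block _).2 (Or.inr hθ₀)) hθne)).mul_left _)
      (Finset.dvd_sum fun χ hχ => (Int.natCast_dvd_natCast.2 (hcon χ ((D.mem_block _).2
        (Or.inl (Finset.mem_erase.1 hχ).2)) (Finset.mem_erase.1 hχ).1)).mul_left _)
  · have hall : deg θ₀ = 1 := (D.deg_Y_eq hθ₀ ht).trans deg_trivIrr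
    rw [hall, Nat.cast_one, mul_one] at hrel
    refine hnd _ D.ε_eq (hrel ▸ Finset.dvd_sum fun χ hχ => ?_)
    exact (Int.natCast_dvd_natCast.2 (hcon χ ((D.mem_block _).2 (Or.inl hχ))
      fun e => Finset.disjoint_left.1 D.disj (e ▸ hχ) ht)).mul_left _

end Cfsg.Agent.PrimeBlock
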