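import Cfsg.Agent.Lib.PrimeBlock.Bound
import Cfsg.Agent.Lib.SmallSimple.Centralize

/-!
# Simple groups of order `p r q ^ b` have order 60 or 168
-/

set_option linter.style.haveILetI false
set_option linter.unusedSectionVars false

namespace Cfsg.Agent.PrimeBlock

open Cfsg.Agent.Characters Cfsg.Agent.Blocks Subgroup
open Cfsg.Agent.SmallSimple
open scoped ComplexConjugate

universe u

variable {G : Type u} [Group G] [Finite G]

theorem not_dvd_cofactor {p r q b : ℕ} (hp : p.Prime) (hr : r.Prime) (hq : q.Prime) (hpr : p ≠ r)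
    (hpq : p ≠ q) : ¬ p ∣ r * q ^ b := fun h => (hp.dvd_mul.1 h).elim
  (fun h => hpr ((Nat.prime_dvd_prime_iff_eq hp hr).1 h))
  (fun h => hpq ((Nat.prime_dvd_prime_iff_eq hp hq).1 (hp.dvd_of_dvd_pow h)))

/-- The principal block at a prime dividing the order of a simple group once. -/
theorem exists_pblock_simple [IsSimpleGroup G] (hG : ¬ IsMulCommutative G) {p m : ℕ} [Fact p.Prime]
    (hcard : Nat.card G = p * m) (hm : ¬ p ∣ m) : ∃ P : Sylow p G, ∃ D : PBlock P, 1 < D.e := by
  obtain ⟨P⟩ : Nonempty (Sylow p G) := inferInstance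
  have hP : Nat.card (P : Subgroup G) = p := by
    rw [Basic.card_sylow_eq_pow (a := 1) (by rw [pow_one]; exact hcard) hm P, pow_one]
  obtain ⟨e, he, he1, hN, -⟩ := Centralize.centralizer_data hG P hP
  have hodd : p ≠ 2 := by
    rintro rfl
    have := Nat.le_of_dvd (by norm_num) he
    omega
  obtain ⟨D⟩ := exists_pblock hodd P hP
  have := relIndex_mul_relIndex ⊥ (centralizer ((P : Subgroup G) : Set G))
    (normalizer ((P : Subgroup G) : Set G)) bot_le (centralizer_le_normalizer _)
  rw [relIndex_bot_left, relIndex_bot_left, hN, D.he] at this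
  exact ⟨P, D, by rw [Nat.eq_of_mul_eq_mul_left Nat.card_pos this]; exact he1⟩

theorem PBlock.not_dvd_deg {p : ℕ} [Fact p.Prime] {P : Sylow p G} (D : PBlock P)
    {χ : Cfsg.IrrCharacter G} (hχ : χ ∈ Cfsg.principalBlock D.M G) : ¬ p ∣ deg χ := by
  intro hd
  have hd' : ((deg χ : ℕ) : ℤ) ≡ 0 [ZMOD p] :=
    Int.modEq_zero_iff_dvd.2 (Int.natCast_dvd_natCast.2 hd)
  have hp : p.Prime := Fact.out
  have := D.e_pos
  have := D.e_lt
  have key : ∀ z : ℕ, 0 < z → z < p → ¬ (p : ℤ) ∣ (z : ℤ) := fun z h0 h1 h =>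
    absurd (Nat.le_of_dvd h0 (Int.natCast_dvd_natCast.1 h)) (by omega)
  rcases (D.mem_block χ).1 hχ with h | h
  · have h1 := Int.modEq_zero_iff_dvd.1 ((D.deg_X χ h).symm.trans hd')
    rcases D.sgn_eq χ h with e | e <;> rw [e] at h1
    · exact key 1 one_pos hp.one_lt (by exact_mod_cast h1)
    · exact key 1 one_pos hp.one_lt (by simpa using h1)
  · have h1 := Int.modEq_zero_iff_dvd.1 ((D.deg_Y χ h).symm.trans hd')
    rcases D.ε_eq with e | e <;> rw [e] at h1
    · exact key D.e (by omega) (by omega) (by simpa using h1)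
    · exact key D.e (by omega) (by omega) (by simpa using h1)

theorem PBlock.trivIrr_mem_X {p : ℕ} [Fact p.Prime] {P : Sylow p G} (D : PBlock P)
    {θ : Cfsg.IrrCharacter G} (hθ : θ ∈ D.Y) (h1 : deg θ ≠ 1) :
    trivIrr G ∈ D.X ∧ D.sgn (trivIrr G) = 1 := by
  have ht : trivIrr G ∈ D.X := D.trivIrr_mem.resolve_right fun h => h1 (by
    rw [D.deg_Y_eq hθ h, deg_trivIrr])
  refine ⟨ht, ?_⟩
  obtain ⟨x, hx1, hx⟩ := D.exists_ne_one
  have := D.val_X' ht hx hx1
  simp only [trivIrr_coe] at this
  exact_mod_cast this.symm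

/-- A non-trivial member of degree prime to `q` of the block at `p` has degree the other prime. -/
theorem exists_deg_eq [IsSimpleGroup G] (hG : ¬ IsMulCommutative G) {p r q b : ℕ} [Fact p.Prime]
    (hr : r.Prime) (hq : q.Prime) (hcard : Nat.card G = p * (r * q ^ b))
    {P : Sylow p G} (D : PBlock P) :
    ∃ χ ∈ Cfsg.principalBlock D.M G, χ ≠ trivIrr G ∧ deg χ = r := by
  have hp : p.Prime := Fact.out
  obtain ⟨χ, hχ, hne, hq'⟩ := D.exists_deg_not_dvd hq.one_lt
  refine ⟨χ, hχ, hne, ?_⟩
  have hd : deg χ ∣ p * (r * q ^ b) := hcard ▸ char_degree_dvd_card χ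
  have h1 := ((hp.coprime_iff_not_dvd.2 (D.not_dvd_deg hχ)).symm).dvd_of_dvd_mul_left hd
  have h2 := ((Nat.Coprime.pow_left b (hq.coprime_iff_not_dvd.2 hq')).symm).dvd_of_dvd_mul_right h1
  exact ((Nat.dvd_prime hr).1 h2).resolve_left (deg_ne_one hG hne)

theorem two_pow_of_primes {n p r q b : ℕ} (hn : n ∣ p * (r * q ^ b)) (hq : q.Prime) (hp : p.Prime)
    (hr : r.Prime) (h1 : ¬ p ∣ n) (h2 : ¬ r ∣ n) : ∃ i, n = q ^ i := by
  have h3 := ((hp.coprime_iff_not_dvd.2 h1).symm).dvd_of_dvd_mul_left hn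
  have h4 := ((hr.coprime_iff_not_dvd.2 h2).symm).dvd_of_dvd_mul_left h3
  obtain ⟨i, -, hi⟩ := (Nat.dvd_prime_pow hq).1 h4
  exact ⟨i, hi⟩

theorem PBlock.e_pow {p : ℕ} [Fact p.Prime] {P : Sylow p G} (D : PBlock P) {r q b : ℕ}
    (hq : q.Prime) (hr : r.Prime) (hcard : Nat.card G = p * (r * q ^ b)) (hre : ¬ r ∣ D.e) :
    ∃ i, D.e = q ^ i := by
  refine two_pow_of_primes (n := D.e) (p := p) (b := b) ?_ hq Fact.out hr (fun h => absurd (Nat.le_of_dvd D.e_pos h) (by
    have := D.e_lt; omega)) hre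
  rw [← hcard, ← D.he]
  exact (relIndex_dvd_card _ _).trans (card_subgroup_dvd_card _)

/-- The order, when the group has a small exceptional character of degree `3`. -/
theorem card_sylow_two_dvd_eight [IsSimpleGroup G] (hG : ¬ IsMulCommutative G) {r b : ℕ}
    [Fact r.Prime] (hr : 5 ≤ r) {R : Sylow r G} (D : PBlock R) {θ : Cfsg.IrrCharacter G}
    (hθ : θ ∈ D.Y) (h3 : deg θ = 3) (hcard : Nat.card G = 3 * r * 2 ^ b) : 2 ^ b ∣ 8 := by
  classical
  haveI := Fintype.ofFinite G
  haveI : Fact (Nat.Prime 2) := ⟨Nat.prime_two⟩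
  have hne : θ ≠ trivIrr G := fun h => by rw [h, deg_trivIrr] at h3; omega
  have hC := D.card_centralizer hG ((D.mem_block θ).2 (Or.inr hθ)) hne (by omega)
  obtain ⟨M2, hM2⟩ := BlockCharsA.DefectZeroVanish.exists_modular Nat.prime_two
  obtain ⟨T⟩ : Nonempty (Sylow 2 G) := inferInstance
  have hr2 : ¬ 2 ∣ 3 * r := fun h => by
    rcases Nat.prime_two.dvd_mul.1 h with h' | h'
    · omega
    · have := (Nat.prime_dvd_prime_iff_eq Nat.prime_two (Fact.out : r.Prime)).1 h'
      omega
  have hT : Nat.card (T : Subgroup G) = 2 ^ b :=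
    SmallSimple.Basic.card_sylow_eq_pow (a := b) (m := 3 * r) (by rw [hcard]; ring) hr2 T
  have hsq : ∀ g : (T : Subgroup G), g ≠ 1 → (θ : G → ℂ) (g : G) * conj ((θ : G → ℂ) (g : G)) = 1 := by
    intro g hg
    have hg1 : (g : G) ≠ 1 := fun e => hg (Subtype.ext e)
    obtain ⟨k, hk⟩ := IsPGroup.iff_orderOf.1 T.2 g
    rw [← orderOf_coe] at hk
    obtain ⟨c, hc⟩ := D.exists_int hC hθ (by omega) (by omega) (g := (g : G)) fun hd => by
      rw [hk] at hd
      have := (Nat.prime_dvd_prime_iff_eq (Fact.out : r.Prime) Nat.prime_two).1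
        ((Fact.out : r.Prime).dvd_of_dvd_pow hd)
      omega
    have hθ1 : (θ : G → ℂ) 1 = ((3 : ℕ) : ℂ) := by rw [← deg_cast, h3]
    have hodd : (2 : ℤ) ∣ c - 3 := by
      have h := char_cong_of_commute hM2 θ (Commute.one_right (g : G)) (k := k)
        (by rw [← hk, pow_orderOf_eq_one]) (y := 1) (not_dvd_one (G := G))
      rw [mul_one, hc, hθ1] at h
      exact_mod_cast (ideal_intCast_iff hM2 (c - 3)).1 (by push_cast; exact h)
    have hle : ‖(θ : G → ℂ) (g : G)‖ ≤ ‖(θ : G → ℂ) 1‖ := char_norm_le (irr_isCharacter θ) _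
    have hlt : ‖(θ : G → ℂ) (g : G)‖ < ‖(θ : G → ℂ) 1‖ :=
      lt_of_le_of_ne hle fun e => hg1 (eq_one_of_norm_eq hG hne e)
    rw [hc, hθ1, Complex.norm_intCast, Complex.norm_natCast] at hlt
    have hlt' : |c| < 3 := by exact_mod_cast hlt
    rw [abs_lt] at hlt'
    rw [hc]
    obtain rfl | rfl : c = 1 ∨ c = -1 := by omega
    all_goals simp
  obtain ⟨m, hm⟩ := classInner_char_nat (G := (T : Subgroup G))
    (isCharacter_restrict _ (irr_isCharacter θ)) (isCharacter_restrict _ (irr_isCharacter θ))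
  rw [classInner_def, inv_mul_eq_iff_eq_mul₀ natCard_ne_zero,
    ← Finset.add_sum_erase _ _ (Finset.mem_univ 1),
    Finset.sum_congr rfl (g := fun _ => (1 : ℂ)) fun g hg => hsq g (Finset.mem_erase.1 hg).1,
    Finset.sum_const, Finset.card_erase_of_mem (Finset.mem_univ _), Finset.card_univ,
    ← Nat.card_eq_fintype_card, OneMemClass.coe_one, ← deg_cast, h3, map_natCast, nsmul_one, hT,
    Nat.cast_sub Nat.one_le_two_pow] at hm
  have h8 : (8 : ℤ) = 2 ^ b * ((m : ℤ) - 1) := by
    have : ((8 : ℤ) : ℂ) = ((2 ^ b * ((m : ℤ) - 1) : ℤ) : ℂ) := by push_cast at hm ⊢; linear_combination hm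
    exact_mod_cast this
  exact Int.natCast_dvd_natCast.1 ⟨(m : ℤ) - 1, by push_cast; exact h8⟩

set_option maxHeartbeats 1600000 in
/-- The only possibilities when the small character has degree `r - e`. -/
theorem count_bound [IsSimpleGroup G] (hG : ¬ IsMulCommutative G) {p r b : ℕ} [Fact p.Prime]
    [Fact r.Prime] {P : Sylow p G} (Dp : PBlock P) {R : Sylow r G} (D : PBlock R)
    (hcard : Nat.card G = p * r * 2 ^ b) {θ : Cfsg.IrrCharacter G} (hθ : θ ∈ D.Y)
    (hdeg : deg θ = p) (hpr : p + D.e = r) (he : Dp.e = D.e) : D.e < 4 := by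
  classical
  haveI := Fintype.ofFinite G
  haveI := Fintype.ofFinite (Sylow r G)
  have hp : p.Prime := Fact.out
  have hr : r.Prime := Fact.out
  have hodd := Dp.two_lt
  have hep := D.e_pos
  obtain ⟨M2, hM2⟩ := BlockCharsA.DefectZeroVanish.exists_modular Nat.prime_two
  obtain ⟨n, ρ, hρ, hchar⟩ := θ.2
  set Sr := Finset.univ.filter fun g : G => r ∣ orderOf g with hSr
  set Sp := Finset.univ.filter fun g : G => p ∣ orderOf g with hSp
  set T := Finset.univ.filter fun g : G => g ≠ 1 ∧ ¬ p ∣ orderOf g ∧ ¬ r ∣ orderOf g with hT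
  -- the regular part
  have hTpow : ∀ g ∈ T, ∃ k, orderOf g = 2 ^ k := by
    intro g hg
    obtain ⟨-, -, h1, h2⟩ := Finset.mem_filter.1 hg
    exact two_pow_of_primes (b := b) (by rw [← mul_assoc, ← hcard]; exact orderOf_dvd_natCard g)
      Nat.prime_two hp hr h1 h2
  have hTle : (T.card : ℝ) ≤ ∑ g ∈ T, ‖(θ : G → ℂ) g‖ ^ 2 := by
    rw [← hchar]
    refine card_le_sum_norm_sq (ρ := ρ) T (fun g hg k hk => ?_) fun g hg => ?_
    · have ho : orderOf (g ^ k) = orderOf g :=
        Nat.Coprime.orderOf_pow (hk.symm.coprime_dvd_left (orderOf_dvd_natCard g))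
      simp only [T, Finset.mem_filter, Finset.mem_univ, true_and] at hg ⊢
      refine ⟨fun e => hg.1 (orderOf_eq_one_iff.1 (by rw [← ho, e, orderOf_one])), ?_⟩
      rw [ho]; exact hg.2
    · intro h0
      obtain ⟨k, hk⟩ := hTpow g hg
      have h := char_cong_of_commute hM2 θ (Commute.one_right g) (k := k)
        (by rw [← hk, pow_orderOf_eq_one]) (y := 1) (not_dvd_one (G := G))
      rw [mul_one, ← hchar, h0, hchar, ← deg_cast, hdeg] at h
      have := (ideal_natCast_iff hM2 _).1 (cong_zero_iff.1 (cong_symm hM2 h))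
      rw [Nat.prime_dvd_prime_iff_eq Nat.prime_two hp] at this
      omega
  -- the values on the conjugates of `R`
  have hSrle : (Nat.card (Sylow r G) : ℝ) * ((p : ℝ) * D.e) ≤ ∑ g ∈ Sr, ‖(θ : G → ℂ) g‖ ^ 2 := by
    have hRcard : ∀ Q : Sylow r G, Nat.card (Q : Subgroup G) = r := fun Q => by
      rw [Q.card_eq_multiplicity, ← R.card_eq_multiplicity, D.card_P]
    obtain ⟨x, hx1, hx⟩ := D.exists_ne_one
    have hgen : ∀ (Q : Sylow r G) (y : G), y ∈ (Q : Subgroup G) → y ≠ 1 → zpowers y = (Q : Subgroup G) :=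
      fun Q y hy hy1 => SmallSimple.Centralize.sylow_le_iff_mem hy hy1 (hRcard Q)
    have hlt : deg θ < r := by omega
    have horb : ∀ a : G, ∑ i ∈ (Finset.range r).erase 0, ‖(θ : G → ℂ) ((a * x * a⁻¹) ^ i)‖ ^ 2 =
        (p : ℝ) * D.e := by
      intro a
      have h := congrArg Complex.re (D.norm_small hθ hlt hx hx1)
      rw [range_split (p := r) D, hdeg] at h
      simp only [Complex.add_re, Complex.re_sum, Complex.mul_conj, Complex.ofReal_re, pow_zero,
        ← deg_cast, hdeg, Complex.normSq_natCast] at h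
      simp only [Complex.mul_re, Complex.natCast_re, Complex.natCast_im, mul_zero, sub_zero] at h
      have hr' : (r : ℝ) = p + D.e := by exact_mod_cast hpr.symm
      rw [hr'] at h
      rw [Finset.sum_congr rfl fun i _ => by
        rw [conj_pow, irr_isClassFunction θ (x ^ i) a, Complex.sq_norm]]
      linarith
    have hQa : ∀ Q : Sylow r G, ∃ a : G, a * x * a⁻¹ ∈ (Q : Subgroup G) := by
      intro Q
      obtain ⟨a, rfl⟩ := MulAction.exists_smul_eq G R Q
      exact ⟨a, by rw [Sylow.coe_subgroup_smul]; exact ⟨x, hx, rfl⟩⟩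
    choose a ha using hQa
    have hax : ∀ Q, a Q * x * (a Q)⁻¹ ≠ 1 := fun Q e => hx1 (conj_eq_one_iff.1 e)
    have hao : ∀ Q, orderOf (a Q * x * (a Q)⁻¹) = r := fun Q =>
      (orderOf_injective (MulAut.conj (a Q)).toMonoidHom (MulAut.conj (a Q)).injective x).trans
        (D.orderOf_eq hx hx1)
    set F : Sylow r G × ℕ → G := fun z => (a z.1 * x * (a z.1)⁻¹) ^ z.2
    have hFne : ∀ Q, ∀ i ∈ (Finset.range r).erase 0, F (Q, i) ≠ 1 := fun Q i hi e =>
      D.not_dvd_of_mem_erase hi (hao Q ▸ orderOf_dvd_of_pow_eq_one e)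
    have hinj : Set.InjOn F ↑((Finset.univ : Finset (Sylow r G)) ×ˢ (Finset.range r).erase 0) := by
      rintro ⟨Q, i⟩ hQi ⟨Q', j⟩ hQj e
      simp only [Finset.coe_product, Set.mem_prod, Finset.mem_coe] at hQi hQj
      obtain rfl : Q = Q' := Sylow.ext (by
        rw [← hgen Q _ (pow_mem (ha Q) i) (hFne Q i hQi.2), ← hgen Q' _ (pow_mem (ha Q') j) (hFne Q' j hQj.2)]
        exact congrArg _ e)
      have := pow_eq_pow_iff_modEq.1 e
      rw [hao, Nat.ModEq, Nat.mod_eq_of_lt (Finset.mem_range.1 (Finset.mem_erase.1 hQi.2).2),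
        Nat.mod_eq_of_lt (Finset.mem_range.1 (Finset.mem_erase.1 hQj.2).2)] at this
      rw [this]
    calc (Nat.card (Sylow r G) : ℝ) * ((p : ℝ) * D.e)
        = ∑ z ∈ (Finset.univ : Finset (Sylow r G)) ×ˢ (Finset.range r).erase 0,
            ‖(θ : G → ℂ) (F z)‖ ^ 2 := by
          rw [Finset.sum_product, Finset.sum_congr rfl fun Q _ => horb (a Q), Finset.sum_const,
            Finset.card_univ, ← Nat.card_eq_fintype_card, nsmul_eq_mul]
      _ = ∑ g ∈ Finset.image F ((Finset.univ : Finset (Sylow r G)) ×ˢ (Finset.range r).erase 0),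
            ‖(θ : G → ℂ) g‖ ^ 2 := (Finset.sum_image (f := fun g : G => ‖(θ : G → ℂ) g‖ ^ 2) hinj).symm
      _ ≤ _ := by
          refine Finset.sum_le_sum_of_subset_of_nonneg (fun g hg => ?_) fun g _ _ => sq_nonneg _
          obtain ⟨⟨Q, i⟩, hz, rfl⟩ := Finset.mem_image.1 hg
          refine Finset.mem_filter.2 ⟨Finset.mem_univ _, ?_⟩
          have hi := (Finset.mem_product.1 hz).2
          show r ∣ orderOf ((a Q * x * (a Q)⁻¹) ^ i)
          rw [Nat.Coprime.orderOf_pow (by
            rw [hao]; exact hr.coprime_iff_not_dvd.2 (D.not_dvd_of_mem_erase hi)), hao]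
  -- the norm
  have hnorm : (p : ℝ) ^ 2 + (∑ g ∈ T, ‖(θ : G → ℂ) g‖ ^ 2 + ∑ g ∈ Sr, ‖(θ : G → ℂ) g‖ ^ 2) ≤
      Nat.card G := by
    have h := classInner_isIrr_self θ.2
    rw [classInner_def, inv_mul_eq_iff_eq_mul₀ natCard_ne_zero, mul_one] at h
    have h' := congrArg Complex.re h
    simp only [Complex.re_sum, Complex.mul_conj, Complex.ofReal_re, Complex.natCast_re,
      Complex.normSq_eq_norm_sq] at h'
    rw [← h', ← Finset.sum_union (Finset.disjoint_left.2 fun g hg hg' =>
      (Finset.mem_filter.1 hg).2.2.2 (Finset.mem_filter.1 hg').2)]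
    have h1n : (1 : G) ∉ T ∪ Sr := by
      simp [T, Sr, hr.ne_one]
    refine le_of_eq_of_le ?_ (Finset.sum_le_sum_of_subset_of_nonneg (Finset.subset_univ (insert 1 (T ∪ Sr)))
      fun g _ _ => sq_nonneg _)
    rw [Finset.sum_insert h1n, ← deg_cast, hdeg, Complex.norm_natCast]
  -- counting
  have hcover : Nat.card G ≤ 1 + T.card + Sr.card + Sp.card := by
    rw [Nat.card_eq_fintype_card, ← Finset.card_univ]
    refine (Finset.card_le_card (t := insert 1 (T ∪ Sr ∪ Sp)) fun g _ => ?_).trans ?_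
    · simp only [Finset.mem_insert, Finset.mem_union, T, Sr, Sp, Finset.mem_filter, Finset.mem_univ, true_and]
      tauto
    · refine (Finset.card_insert_le _ _).trans ?_
      have := Finset.card_union_le (T ∪ Sr) Sp
      have := Finset.card_union_le T Sr
      omega
  have hCR : Nat.card (centralizer ((R : Subgroup G) : Set G)) = r := D.card_centralizer hG
    ((D.mem_block θ).2 (Or.inr hθ)) (fun h => by rw [h, deg_trivIrr] at hdeg; omega) (by omega)
  have hsylow : Nat.card (Sylow r G) * (r * D.e) = Nat.card G := by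
    have := relIndex_mul_relIndex ⊥ (centralizer ((R : Subgroup G) : Set G))
      (normalizer ((R : Subgroup G) : Set G)) bot_le (centralizer_le_normalizer _)
    rw [relIndex_bot_left, relIndex_bot_left, D.he, hCR] at this
    rw [this, mul_comm]
    exact SmallSimple.Basic.card_normalizer_mul R
  have hA : Sr.card * (r * D.e) ≤ Nat.card G * (r - 1) := D.singular_le
  have hB : Sp.card * (p * Dp.e) ≤ Nat.card G * (p - 1) := Dp.singular_le
  rw [he] at hB
  by_contra hlt
  push Not at hlt
  have h1 : ((Nat.card G : ℕ) : ℝ) * p + ((p : ℝ) ^ 2 + T.card) * r ≤ r * (Nat.card G : ℕ) := by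
    have hs : (Nat.card (Sylow r G) : ℝ) * ((r : ℝ) * D.e) = (Nat.card G : ℕ) := by exact_mod_cast hsylow
    have hr0 : (0 : ℝ) ≤ r := Nat.cast_nonneg r
    nlinarith [mul_le_mul_of_nonneg_left (add_le_add hTle hSrle) hr0, mul_le_mul_of_nonneg_left hnorm hr0]
  have h1' : Nat.card G * p + (p ^ 2 + T.card) * r ≤ r * Nat.card G := by exact_mod_cast h1
  zify [hp.one_le, hr.one_le] at hA hB h1' hcover
  set g : ℤ := ((Nat.card G : ℕ) : ℤ)
  set E : ℤ := (D.e : ℤ)
  have hr'' : (r : ℤ) = p + E := by simp only [E]; exact_mod_cast hpr.symm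
  have hE : (4 : ℤ) ≤ E := by simp only [E]; exact_mod_cast hlt
  have hg : (0 : ℤ) < g := by simp only [g]; exact_mod_cast Nat.card_pos
  have hp3 : (3 : ℤ) ≤ p := by exact_mod_cast hodd
  have hEp : E < p := by
    have := Dp.e_lt
    simp only [E]; omega
  have hc : g * (r * p * E) ≤ r * p * E + (p * E) * (r * (T.card : ℤ)) +
      p * ((Sr.card : ℤ) * (r * E)) + r * ((Sp.card : ℤ) * (p * E)) := by
    have := mul_le_mul_of_nonneg_right hcover (show (0 : ℤ) ≤ r * p * E by positivity)
    linarith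
  have hc2 : g * (r * p * E) ≤ r * p * E + (p * E) * (r * g - g * p - p ^ 2 * r) +
      p * (g * (r - 1)) + r * (g * (p - 1)) := by
    have e1 := mul_le_mul_of_nonneg_left (show r * (T.card : ℤ) ≤ r * g - g * p - p ^ 2 * r by linarith)
      (show (0 : ℤ) ≤ p * E by positivity)
    have e2 := mul_le_mul_of_nonneg_left hA (show (0 : ℤ) ≤ p by positivity)
    have e3 := mul_le_mul_of_nonneg_left hB (show (0 : ℤ) ≤ r by positivity)
    linarith
  have hkey : g * (p * p * E - 2 * p * r + p + r) < 0 := by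
    have hpos : 0 < r * p * E * (p ^ 2 - 1) := by
      rw [hr'']
      have : (0 : ℤ) < (p : ℤ) ^ 2 - 1 := by nlinarith
      positivity
    nlinarith
  have hfin : p * p * E - 2 * p * r + p + r < 0 := by
    by_contra hnn
    push Not at hnn
    exact absurd (mul_nonneg hg.le hnn) (not_le.2 hkey)
  rw [hr''] at hfin
  nlinarith [mul_le_mul_of_nonneg_left hE (show (0 : ℤ) ≤ p * p by positivity),
    mul_lt_mul_of_pos_left hEp (show (0 : ℤ) < p by linarith)]

set_option maxHeartbeats 1600000 in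
/-- Brauer–Tuan: the order of a simple group of order `p r q ^ b` is `60` or `168`. -/
theorem card_eq_of_lt [IsSimpleGroup G] (hG : ¬ IsMulCommutative G) {p r q b : ℕ} (hp : p.Prime)
    (hr : r.Prime) (hq : q.Prime) (hpq : p ≠ q) (hrq : r ≠ q) (hlt : p < r)
    (hcard : Nat.card G = p * r * q ^ b) : Nat.card G = 60 ∨ Nat.card G = 168 := by
  classical
  haveI := Fact.mk hp
  haveI := Fact.mk hr
  have hcr : Nat.card G = r * (p * q ^ b) := by rw [hcard]; ring
  have hcp : Nat.card G = p * (r * q ^ b) := by rw [hcard]; ring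
  obtain ⟨P, Dp, hep1⟩ := exists_pblock_simple hG hcp (not_dvd_cofactor hp hr hq hlt.ne hpq)
  obtain ⟨R, D, he1⟩ := exists_pblock_simple hG hcr (not_dvd_cofactor hr hp hq hlt.ne' hrq)
  obtain ⟨kp, hkp⟩ := hp.odd_of_ne_two Dp.odd
  obtain ⟨kr, hkr⟩ := hr.odd_of_ne_two D.odd
  have hdvd2 : ∀ {s : ℕ}, 1 < s → s ∣ r - 1 → s ∣ r → False := fun {s} hs h1 h2 => by
    have := Nat.dvd_sub h2 h1
    rw [Nat.sub_sub_self hr.one_le, Nat.dvd_one] at this
    omega
  obtain ⟨θ, hθB, hθne, hθdeg⟩ := exists_deg_eq hG hp hq hcr D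
  have hθ : θ ∈ D.Y := ((D.mem_block θ).1 hθB).resolve_left fun hX => by
    obtain ⟨c, hc⟩ := Int.modEq_iff_dvd.1 (D.deg_X θ hX)
    rw [hθdeg] at hc
    rcases D.sgn_eq θ hX with e | e <;> rw [e] at hc
    · have : c = 0 := by
        rcases lt_trichotomy c 0 with h | h | h
        · nlinarith [hp.two_le]
        · exact h
        · nlinarith [hp.two_le]
      subst this
      have := hp.two_le
      omega
    · have : c = -1 := by
        rcases lt_trichotomy c (-1) with h | h | h
        · nlinarith [hp.two_le]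
        · exact h
        · nlinarith [hp.two_le]
      subst this
      omega
  have hed := D.e_dvd
  have h2e : 2 * D.e ≤ r - 1 := by
    obtain ⟨c, hc⟩ := hed
    rcases (show c = 0 ∨ c = 1 ∨ 2 ≤ c by omega) with rfl | rfl | hc2
    · rw [mul_zero] at hc; omega
    · exfalso
      have := hp.two_le
      rcases D.degree_small hθ (by omega) with ⟨h, -⟩ | ⟨h, -⟩ <;> rw [hθdeg] at h <;> omega
    · calc 2 * D.e ≤ c * D.e := Nat.mul_le_mul_right _ hc2
        _ = r - 1 := by rw [hc, mul_comm]
  rcases D.degree_small hθ (by omega) with ⟨hpe, -⟩ | ⟨hpe, hε⟩ <;> rw [hθdeg] at hpe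
  · -- `p = e`
    obtain ⟨hb1, hb2⟩ := D.e_bound hG hθ (hθdeg.trans hpe) he1
    rw [← hpe] at hb1 hb2 hed h2e
    have hr2 : r = 2 * p + 1 := by omega
    have hd := hb2 (by omega)
    rw [hcp] at hd
    obtain ⟨i, hi⟩ := two_pow_of_primes hd hq hp hr
      (fun h => by
        have hm : p ∣ 2 * (p + 1) := (show r + 1 = 2 * (p + 1) by omega) ▸ h
        rcases hp.dvd_mul.1 hm with h' | h'
        · have := Nat.le_of_dvd two_pos h'; omega
        · rw [Nat.dvd_add_self_left, Nat.dvd_one] at h'; exact hp.ne_one h')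
      (fun h => by rw [Nat.dvd_add_self_left, Nat.dvd_one] at h; exact hr.ne_one h)
    obtain rfl : q = 2 := by
      have : 2 ∣ q ^ i := hi ▸ ⟨p + 1, by omega⟩
      exact ((Nat.prime_dvd_prime_iff_eq Nat.prime_two hq).1 (Nat.prime_two.dvd_of_dvd_pow this)).symm
    have hp3 : p = 3 := by
      by_contra h3
      have h3r : ¬ 3 ∣ r := fun h => by
        have := (Nat.prime_dvd_prime_iff_eq Nat.prime_three hr).1 h; omega
      have h3p : ¬ 3 ∣ p := fun h => h3 ((Nat.prime_dvd_prime_iff_eq Nat.prime_three hp).1 h).symm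
      have h3i : ¬ 3 ∣ 2 ^ i := fun h => by
        have := Nat.prime_three.dvd_of_dvd_pow h; omega
      rw [← hi] at h3i
      rcases (show p % 3 = 1 ∨ p % 3 = 2 by omega) with h | h <;> omega
    subst hp3
    obtain rfl : r = 7 := by omega
    have h8 := card_sylow_two_dvd_eight hG (by norm_num) D hθ hθdeg hcard
    obtain ⟨j, hj, hj'⟩ := (Nat.dvd_prime_pow Nat.prime_two).1 (show 2 ^ b ∣ 2 ^ 3 from h8)
    obtain rfl : b = j := Nat.pow_right_injective le_rfl hj'
    have hC := D.card_centralizer hG hθB hθne (by omega)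
    have hn : Nat.card (Sylow 7 G) = 2 ^ b := by
      have := relIndex_mul_relIndex ⊥ (centralizer ((R : Subgroup G) : Set G))
        (normalizer ((R : Subgroup G) : Set G)) bot_le (centralizer_le_normalizer _)
      rw [relIndex_bot_left, relIndex_bot_left, D.he, hC, ← hpe] at this
      have h := SmallSimple.Basic.card_normalizer_mul R
      rw [← this, hcard] at h
      omega
    have hmod := card_sylow_modEq_one 7 G
    have h1 := (SmallSimple.Basic.sylow_count (p := 7) hG (by rw [hcr]; exact dvd_mul_right _ _)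
      (a := 1) (by rw [pow_one]; exact hcr) (not_dvd_cofactor hr hp hq hlt.ne' hrq)).2.2.1
    rw [hn] at hmod h1
    rw [Nat.ModEq] at hmod
    interval_cases b
    · norm_num at h1
    · norm_num at hmod
    · norm_num at hmod
    · right; rw [hcard]; norm_num
  · -- `p = r - e`
    have hnp : ¬ p ∣ D.e := fun h => by
      have h' : p ∣ r := hpe ▸ (Nat.dvd_add_self_left.2 h)
      have := (Nat.prime_dvd_prime_iff_eq hp hr).1 h'
      omega
    obtain ⟨i, hi⟩ := D.e_pow (b := b) hq hp hcr hnp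
    obtain rfl : q = 2 := by
      have : 2 ∣ q ^ i := hi ▸ ⟨kr - kp, by omega⟩
      exact ((Nat.prime_dvd_prime_iff_eq Nat.prime_two hq).1 (Nat.prime_two.dvd_of_dvd_pow this)).symm
    obtain ⟨χ, hχB, hχne, hχdeg⟩ := exists_deg_eq hG hr hq hcp Dp
    have hcases : Dp.e = D.e ∨ D.e + 1 = p := by
      obtain ⟨j, hj⟩ := Dp.e_pow (b := b) hq hr hcp fun h => by
        have := Nat.le_of_dvd Dp.e_pos h
        have := Dp.e_lt
        omega
      have hj2 : 2 ∣ Dp.e := by
        rw [hj]
        refine dvd_pow_self 2 ?_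
        rintro rfl
        rw [pow_zero] at hj; omega
      have hel := Dp.e_lt
      have hep := D.e_pos
      have hee : D.e < p := by omega
      have hee' : (D.e : ℤ) + 1 ≤ p := by exact_mod_cast hee
      have hel' : (Dp.e : ℤ) + 1 ≤ p := by exact_mod_cast hel
      have hr' : (r : ℤ) = p + D.e := by exact_mod_cast hpe.symm
      have hDe2 : 2 ∣ D.e := ⟨kr - kp, by omega⟩
      rcases (Dp.mem_block χ).1 hχB with hX | hY
      · obtain ⟨c, hc⟩ := Int.modEq_iff_dvd.1 (Dp.deg_X χ hX)
        rw [hχdeg] at hc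
        rcases Dp.sgn_eq χ hX with e | e <;> rw [e] at hc
        · exfalso
          have : c = -1 := by
            rcases lt_trichotomy c (-1) with h | h | h
            · nlinarith
            · exact h
            · nlinarith
          subst this; omega
        · have : c = -2 := by
            rcases lt_trichotomy c (-2) with h | h | h
            · nlinarith
            · exact h
            · rcases (show c = -1 ∨ 0 ≤ c by omega) with rfl | h0
              · exfalso; omega
              · nlinarith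
          subst this; exact Or.inr (by omega)
      · obtain ⟨c, hc⟩ := Int.modEq_iff_dvd.1 (Dp.deg_Y χ hY)
        rw [hχdeg] at hc
        rcases Dp.ε_eq with e | e <;> rw [e] at hc
        · have : c = -1 := by
            rcases lt_trichotomy c (-1) with h | h | h
            · nlinarith
            · exact h
            · nlinarith
          subst this; exact Or.inl (by omega)
        · exfalso
          have : c = -2 := by
            rcases lt_trichotomy c (-2) with h | h | h
            · nlinarith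
            · exact h
            · rcases (show c = -1 ∨ 0 ≤ c by omega) with rfl | h0
              · exfalso; omega
              · nlinarith
          subst this; omega
    have h35 : p = 3 ∧ r = 5 := by
      rcases hcases with hee | hee
      · have he4 := count_bound hG Dp D (b := b) hcard hθ hθdeg hpe hee
        have he2 : D.e = 2 := by omega
        obtain ⟨htX, htsgn⟩ := D.trivIrr_mem_X hθ (by rw [hθdeg]; exact hp.ne_one)
        have hX2 : (D.X.erase (trivIrr G)).card = 1 := by
          rw [Finset.card_erase_of_mem htX, D.card_X, he2]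
        obtain ⟨ψ, hψ⟩ := Finset.card_eq_one.1 hX2
        have hψX : ψ ∈ D.X := (Finset.mem_erase.1 (by rw [hψ]; exact Finset.mem_singleton_self ψ)).2
        have hrel := D.rel_one hθ
        rw [← Finset.add_sum_erase _ _ htX, hψ, Finset.sum_singleton, htsgn, deg_trivIrr, hθdeg, hε] at hrel
        have hψdeg : deg ψ = p + 1 := by
          rcases D.sgn_eq ψ hψX with e | e <;> rw [e] at hrel <;> push_cast at hrel <;> omega
        have hd : p + 1 ∣ p * (r * 2 ^ b) := by rw [← hψdeg, ← hcp]; exact char_degree_dvd_card ψ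
        obtain ⟨j, hj⟩ := two_pow_of_primes hd Nat.prime_two hp hr
          (fun h => by rw [Nat.dvd_add_self_left, Nat.dvd_one] at h; exact hp.ne_one h)
          (fun h => by have := Nat.le_of_dvd (by omega) h; omega)
        have hp3 : p = 3 := by
          by_contra h3
          have h3r : ¬ 3 ∣ r := fun h => by
            have := (Nat.prime_dvd_prime_iff_eq Nat.prime_three hr).1 h; omega
          have h3p : ¬ 3 ∣ p := fun h => h3 ((Nat.prime_dvd_prime_iff_eq Nat.prime_three hp).1 h).symm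
          have h3j : ¬ 3 ∣ 2 ^ j := fun h => by
            have := Nat.prime_three.dvd_of_dvd_pow h; omega
          rw [← hj] at h3j
          rcases (show p % 3 = 1 ∨ p % 3 = 2 by omega) with h | h <;> omega
        omega
      · have hp3 : p = 3 := by
          by_contra h3
          have h3r : ¬ 3 ∣ r := fun h => by
            have := (Nat.prime_dvd_prime_iff_eq Nat.prime_three hr).1 h; omega
          have h3p : ¬ 3 ∣ p := fun h => h3 ((Nat.prime_dvd_prime_iff_eq Nat.prime_three hp).1 h).symm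
          have h3i : ¬ 3 ∣ 2 ^ i := fun h => by
            have := Nat.prime_three.dvd_of_dvd_pow h; omega
          rw [← hi] at h3i
          rcases (show p % 3 = 1 ∨ p % 3 = 2 by omega) with h | h <;> omega
        omega
    obtain ⟨rfl, rfl⟩ := h35
    have h8 := card_sylow_two_dvd_eight hG (by norm_num) D hθ hθdeg hcard
    obtain ⟨j, hj, hj'⟩ := (Nat.dvd_prime_pow Nat.prime_two).1 (show 2 ^ b ∣ 2 ^ 3 from h8)
    obtain rfl : b = j := Nat.pow_right_injective le_rfl hj'
    have hC := D.card_centralizer hG hθB hθne (by omega)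
    have hn : Nat.card (Sylow 5 G) * 2 = 3 * 2 ^ b := by
      have := relIndex_mul_relIndex ⊥ (centralizer ((R : Subgroup G) : Set G))
        (normalizer ((R : Subgroup G) : Set G)) bot_le (centralizer_le_normalizer _)
      rw [relIndex_bot_left, relIndex_bot_left, D.he, hC, show D.e = 2 by omega] at this
      have h := SmallSimple.Basic.card_normalizer_mul R
      rw [← this, hcard] at h
      omega
    have hmod := card_sylow_modEq_one 5 G
    rw [Nat.ModEq] at hmod
    interval_cases b
    · omega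
    · omega
    · left; rw [hcard]; norm_num
    · omega

end Cfsg.Agent.PrimeBlock
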