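import Cfsg.Agent.Lib.PrimeBlock.Tools

/-!
# Integer tests: involutions, two blocks, and the congruence of Blichfeldt
-/

set_option linter.style.haveILetI false
set_option linter.unusedSectionVars false

namespace Cfsg.Agent.PrimeBlock

open Cfsg.Agent.Characters Cfsg.Agent.Blocks Subgroup
open scoped ComplexConjugate

universe u

variable {G : Type u} [Group G] [Finite G]

/-- Representations of a non-abelian simple group have trivial determinant. -/
theorem det_eq_one [IsSimpleGroup G] (hG : ¬ IsMulCommutative G) {n : ℕ}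
    (ρ : Representation ℂ G (Fin n → ℂ)) (g : G) : LinearMap.det (ρ g) = 1 := by
  let f : G →* ℂˣ := (LinearMap.det.comp ρ).toHomUnits
  rcases f.normal_ker.eq_bot_or_eq_top with h | h
  · refine absurd ⟨⟨fun a b => (MonoidHom.ker_eq_bot_iff f).1 h ?_⟩⟩ hG
    rw [map_mul, map_mul, mul_comm]
  · exact congrArg Units.val (MonoidHom.mem_ker.1 (h ▸ Subgroup.mem_top g : g ∈ f.ker))

/-- The value of a non-trivial character at an involution. -/
theorem involution_value [IsSimpleGroup G] (hG : ¬ IsMulCommutative G) {χ : Cfsg.IrrCharacter G}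
    (hχ : χ ≠ trivIrr G) {z : G} (hz : orderOf z = 2) :
    ∃ v : ℤ, (χ : G → ℂ) z = (v : ℂ) ∧ (4 : ℤ) ∣ (deg χ : ℤ) - v ∧ |v| < (deg χ : ℤ) := by
  classical
  obtain ⟨n, ρ, hρ, hchar⟩ := χ.2
  obtain ⟨b, w, hw, hb⟩ := exists_eigenbasis ρ z
  have htr : (χ : G → ℂ) z = ∑ i, w i := hchar ▸ trace_of_eigenbasis b w hb
  have hdeg : (deg χ : ℂ) = (Module.finrank ℂ (Fin n → ℂ) : ℂ) := by rw [deg_cast, ← hchar, ρ.char_one]
  have hdeg' : deg χ = Module.finrank ℂ (Fin n → ℂ) := Nat.cast_injective hdeg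
  have hdet : ∏ i, w i = 1 := by
    rw [← det_eq_one hG ρ z, ← LinearMap.det_toMatrix b,
      show LinearMap.toMatrix b b (ρ z) = Matrix.diagonal w from Matrix.ext fun i j => by
        rw [LinearMap.toMatrix_apply, hb, map_smul, b.repr_self, Finsupp.smul_apply, smul_eq_mul,
          Matrix.diagonal_apply, Finsupp.single_apply]
        by_cases h : i = j
        · subst h; simp
        · simp [h, Ne.symm h],
      Matrix.det_diagonal]
  have hw1 : ∀ i, w i = 1 ∨ w i = -1 := fun i => by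
    have := hw i
    rw [hz] at this
    exact sq_eq_one_iff.1 this
  set S := Finset.univ.filter fun i => w i = -1 with hS
  have hwi : ∀ i, w i = if i ∈ S then (-1 : ℂ) else 1 := fun i => by
    rcases hw1 i with h | h <;> simp [S, h]
  have hsum : ∑ i, w i = (deg χ : ℂ) - 2 * (S.card : ℂ) := by
    rw [Finset.sum_congr rfl fun i _ => hwi i]
    rw [show (fun i => if i ∈ S then (-1 : ℂ) else 1) = fun i => 1 - (if i ∈ S then (2 : ℂ) else 0) by
      funext i; split_ifs <;> norm_num]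
    rw [Finset.sum_sub_distrib, Finset.sum_const, Finset.sum_ite_mem, Finset.univ_inter,
      Finset.sum_const, Finset.card_univ, Fintype.card_fin, nsmul_one, nsmul_eq_mul, hdeg, mul_comm]
  have heven : Even S.card := by
    rw [Finset.prod_congr rfl fun i _ => hwi i, Finset.prod_ite_mem, Finset.univ_inter,
      Finset.prod_const] at hdet
    exact (neg_one_pow_eq_one_iff_even (by norm_num : (-1 : ℂ) ≠ 1)).1 hdet
  have hle : S.card ≤ deg χ := by
    rw [hdeg']
    exact (Finset.card_le_univ S).trans (Fintype.card_fin _).le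
  refine ⟨(deg χ : ℤ) - 2 * (S.card : ℤ), by rw [htr, hsum]; push_cast; ring, ?_, ?_⟩
  · obtain ⟨c, hc⟩ := heven
    exact ⟨c, by rw [hc]; push_cast; ring⟩
  · have hne : ‖(χ : G → ℂ) z‖ ≠ ‖(χ : G → ℂ) 1‖ := fun e => by
      rw [eq_one_of_norm_eq hG hχ e, orderOf_one] at hz
      norm_num at hz
    rw [htr, hsum, ← deg_cast, Complex.norm_natCast,
      show (deg χ : ℂ) - 2 * (S.card : ℂ) = (((deg χ : ℤ) - 2 * (S.card : ℤ) : ℤ) : ℂ) by push_cast; ring,
      Complex.norm_intCast] at hne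
    have hne' : |(deg χ : ℤ) - 2 * (S.card : ℤ)| ≠ (deg χ : ℤ) := fun e => hne (by exact_mod_cast e)
    refine lt_of_le_of_ne ?_ hne'
    rw [abs_le]
    constructor <;> omega

variable {p : ℕ} [Fact p.Prime] {P : Sylow p G} (D : PBlock P)
include D

/-- The value at an involution of `C(P)` is congruent to the value on `P`. -/
theorem PBlock.involution_cong [IsSimpleGroup G] (hG : ¬ IsMulCommutative G)
    (h2 : 2 ∣ Nat.card (centralizer ((P : Subgroup G) : Set G))) {χ : Cfsg.IrrCharacter G}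
    (hχ : χ ∈ Cfsg.principalBlock D.M G) (hne : χ ≠ trivIrr G) {x : G} (hx : x ∈ (P : Subgroup G))
    (hx1 : x ≠ 1) {w : ℤ} (hw : (χ : G → ℂ) x = (w : ℂ)) :
    ∃ v : ℤ, (p : ℤ) ∣ v - w ∧ (4 : ℤ) ∣ (deg χ : ℤ) - v ∧ |v| < (deg χ : ℤ) := by
  haveI : Fact (Nat.Prime 2) := ⟨Nat.prime_two⟩
  obtain ⟨⟨z, hz⟩, hzo⟩ := exists_prime_orderOf_dvd_card' (G := centralizer ((P : Subgroup G) : Set G)) 2 h2
  rw [orderOf_mk] at hzo
  obtain ⟨v, hv, hv4, hvlt⟩ := involution_value hG hne hzo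
  refine ⟨v, ?_, hv4, hvlt⟩
  have hzr : ¬ p ∣ orderOf z := by
    rw [hzo]
    exact fun h => by have := Nat.le_of_dvd two_pos h; have := D.two_lt; omega
  have hc := char_cong_of_commute D.hM χ (show Commute x z from mem_centralizer_iff.1 hz x hx) (k := 1)
    (by rw [pow_one, D.x_pow hx]) hzr
  rw [D.value_mul hχ hx hx1 hz hzr, hw, hv] at hc
  rw [dvd_sub_comm]
  exact (ideal_intCast_iff D.hM (w - v)).1 (by push_cast; exact hc)

/-- The congruence given by two blocks, for integer values on `P`. -/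
theorem PBlock.pq_sum [IsSimpleGroup G] (hG : ¬ IsMulCommutative G) {q : ℕ} (hq : q.Prime)
    (hqp : q ≠ p) (hqC : ¬ q ∣ Nat.card (centralizer ((P : Subgroup G) : Set G)))
    {Mq : Ideal Cfsg.AlgInt} (hMq : Cfsg.IsPModular q Mq) {x : G} (hx : x ∈ (P : Subgroup G))
    (hx1 : x ≠ 1) (w : Cfsg.IrrCharacter G → ℤ)
    (hw : ∀ χ ∈ Cfsg.principalBlock D.M G, χ ∈ Cfsg.principalBlock Mq G → χ ≠ trivIrr G →
      (χ : G → ℂ) x = (w χ : ℂ)) :
    ∃ S : Finset (Cfsg.IrrCharacter G), (∀ χ ∈ S, χ ∈ Cfsg.principalBlock D.M G ∧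
      χ ∈ Cfsg.principalBlock Mq G ∧ χ ≠ trivIrr G ∧ ∀ k, deg χ ≠ q ^ k) ∧
      (q : ℤ) ^ (Nat.card G).factorization q ∣ 1 + ∑ χ ∈ S, w χ * (deg χ : ℤ) := by
  classical
  have hna : ∃ a b : G, a * b ≠ b * a := by
    by_contra h
    push Not at h
    exact hG ⟨⟨h⟩⟩
  set b := (Nat.card G).factorization q with hb
  obtain ⟨ω, hω⟩ := BlocksChars.PQBlocks.pq_block_sum (Ne.symm hqp) D.hM hMq (D.no_pq hq hqp hqC)
    (b := b) rfl (isPBlock_principal D.M G) (isPBlock_principal Mq G)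
    (y := x) (by rw [D.orderOf_eq hx hx1])
  set S := (Set.toFinite (Cfsg.principalBlock D.M G ∩ Cfsg.principalBlock Mq G)).toFinset with hS
  rw [finsum_mem_eq_finite_toFinset_sum _ (Set.toFinite _), ← hS] at hω
  have ht : trivIrr G ∈ S := by simp [S, trivIrr_mem_principal D.hM, trivIrr_mem_principal hMq]
  refine ⟨S.erase (trivIrr G), fun χ hχ => ?_, ?_⟩
  · have hm := Finset.mem_erase.1 hχ
    simp only [S, Set.Finite.mem_toFinset, Set.mem_inter_iff] at hm
    refine ⟨hm.2.1, hm.2.2, hm.1, fun k hk => hm.1 (eq_trivIrr_of_degree_pow hMq hna hm.2.2 (k := k) ?_)⟩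
    rw [← deg_cast, hk, Nat.cast_pow]
  rw [← Finset.add_sum_erase _ _ ht] at hω
  simp only [trivIrr_coe, mul_one] at hω
  rw [show Cfsg.charDegree ((fun _ : G => (1 : ℂ))) = 1 by simp [Cfsg.charDegree], Nat.cast_one,
    Finset.sum_congr rfl fun (χ : Cfsg.IrrCharacter G) hχ => show (Cfsg.charDegree (χ : G → ℂ) : ℂ) * (χ : G → ℂ) x =
      (((w χ * (deg χ : ℤ)) : ℤ) : ℂ) by
        have hm := Finset.mem_erase.1 hχ
        simp only [S, Set.Finite.mem_toFinset, Set.mem_inter_iff] at hm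
        rw [hw χ hm.2.1 hm.2.2 hm.1]; push_cast; ring] at hω
  set Z := 1 + ∑ χ ∈ S.erase (trivIrr G), w χ * (deg χ : ℤ) with hZ
  have hq0 : (q : ℂ) ^ b ≠ 0 := pow_ne_zero _ (Nat.cast_ne_zero.2 hq.ne_zero)
  have hωq : (ω : ℂ) = ((((Z : ℤ) : ℚ) / (q : ℚ) ^ b : ℚ) : ℂ) := by
    push_cast
    rw [eq_div_iff hq0, mul_comm, ← hω, hZ]
    push_cast
    ring
  obtain ⟨k, hk⟩ := exists_int_of_isIntegral_ratCast (hωq ▸ ω.2)
  refine ⟨k, ?_⟩
  have hk' : ((Z : ℚ) / (q : ℚ) ^ b) = (k : ℚ) := by exact_mod_cast hk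
  rw [div_eq_iff (pow_ne_zero _ (Nat.cast_ne_zero.2 hq.ne_zero))] at hk'
  have : (Z : ℚ) = (((q : ℤ) ^ b * k : ℤ) : ℚ) := by push_cast; rw [hk']; ring
  exact_mod_cast this

omit D [Fact p.Prime] in
/-- **Blichfeldt's congruence.** -/
theorem blichfeldt {q : ℕ} [Fact q.Prime] (χ : Cfsg.IrrCharacter G) (A : Finset ℤ)
    (hA : ∀ g : G, g ≠ 1 → (∃ k, orderOf g = q ^ k) → ∃ v ∈ A, (χ : G → ℂ) g = (v : ℂ)) :
    (q : ℤ) ^ (Nat.card G).factorization q ∣ ∏ a ∈ A, ((deg χ : ℤ) - a) := by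
  classical
  obtain ⟨T⟩ : Nonempty (Sylow q G) := inferInstance
  haveI := Fintype.ofFinite (T : Subgroup G)
  set ψ : ↥(T : Subgroup G) → ℂ := fun g => (χ : G → ℂ) (g : G) with hψ
  have hgen : ∀ B : Finset ℤ,
      Cfsg.IsGeneralizedCharacter (T : Subgroup G) (fun g => ∏ a ∈ B, (ψ g - (a : ℂ))) := by
    intro B
    induction B using Finset.induction_on with
    | empty => simpa using isGen_of_isCharacter (isCharacter_one (G := (T : Subgroup G)))
    | insert a B ha ih =>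
      have h1 : Cfsg.IsGeneralizedCharacter (T : Subgroup G) (fun g => ψ g - (a : ℂ)) := by
        have := isGen_sub (isGen_of_isCharacter (isCharacter_restrict (T : Subgroup G) (irr_isCharacter χ)))
          (isGen_intSmul (isGen_of_isCharacter (isCharacter_one (G := (T : Subgroup G)))) a)
        convert this using 1
        funext g
        simp [ψ]
      have := isGen_mul h1 ih
      convert this using 1
      funext g
      simp [Finset.prod_insert ha]
  obtain ⟨m, hm⟩ := classInner_gen_int (hgen A) (isGen_of_isCharacter (isCharacter_one (G := (T : Subgroup G))))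
  rw [classInner_def, inv_mul_eq_iff_eq_mul₀ natCard_ne_zero] at hm
  rw [Finset.sum_eq_single 1 (fun g _ hg => ?_) (by simp)] at hm
  · simp only [map_one, mul_one, ψ, OneMemClass.coe_one, ← deg_cast, T.card_eq_multiplicity,
      Nat.cast_pow] at hm
    refine ⟨m, ?_⟩
    have h : ((∏ a ∈ A, ((deg χ : ℤ) - a) : ℤ) : ℂ) =
        (((q : ℤ) ^ (Nat.card G).factorization q * m : ℤ) : ℂ) := by push_cast; exact hm
    exact_mod_cast h
  · obtain ⟨k, hk⟩ := IsPGroup.iff_orderOf.1 T.2 g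
    obtain ⟨v, hv, he⟩ := hA g (fun e => hg (Subtype.ext e)) ⟨k, by rw [← orderOf_coe] at hk; exact hk⟩
    rw [Finset.prod_eq_zero hv (show ψ g - (v : ℂ) = 0 by simp [ψ, he]), zero_mul]

omit D [Fact p.Prime] in
/-- The possible values at a `q`-element of an integer-valued character. -/
theorem value_mem [IsSimpleGroup G] (hG : ¬ IsMulCommutative G) {q : ℕ} (hq : q.Prime)
    {χ : Cfsg.IrrCharacter G} (hne : χ ≠ trivIrr G) {g : G} (hg : g ≠ 1) {k : ℕ}
    (hk : orderOf g = q ^ k) {v : ℤ} (hv : (χ : G → ℂ) g = (v : ℂ)) :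
    v ∈ (Finset.Ioo (-(deg χ : ℤ)) (deg χ)).filter (fun v => (q : ℤ) ∣ (deg χ : ℤ) - v) := by
  obtain ⟨M, hM⟩ := BlockCharsA.DefectZeroVanish.exists_modular hq
  have hc := char_cong_of_commute hM χ (Commute.one_right g) (k := k)
    (by rw [← hk, pow_orderOf_eq_one]) (y := 1) (by simp [hq.ne_one])
  rw [mul_one, hv, ← deg_cast] at hc
  have hd := (ideal_intCast_iff hM (v - (deg χ : ℤ))).1 (by push_cast; exact hc)
  have hle : ‖(χ : G → ℂ) g‖ ≤ ‖(χ : G → ℂ) 1‖ := char_norm_le (irr_isCharacter χ) _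
  have hlt : ‖(χ : G → ℂ) g‖ < ‖(χ : G → ℂ) 1‖ :=
    lt_of_le_of_ne hle fun e => hg (eq_one_of_norm_eq hG hne e)
  rw [hv, ← deg_cast, Complex.norm_intCast, Complex.norm_natCast] at hlt
  have hlt' : |v| < (deg χ : ℤ) := by exact_mod_cast hlt
  rw [Finset.mem_filter, Finset.mem_Ioo, dvd_sub_comm]
  exact ⟨abs_lt.1 hlt', hd⟩

/-- A member of the block alone in its degree has rational integer values. -/
theorem PBlock.int_of_unique (hC : Nat.card (centralizer ((P : Subgroup G) : Set G)) = p)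
    {χ : Cfsg.IrrCharacter G} (hχ : χ ∈ Cfsg.principalBlock D.M G) (hnd : ¬ p ∣ deg χ)
    (huniq : ∀ ψ ∈ Cfsg.principalBlock D.M G, deg ψ = deg χ → ψ = χ) (g : G) :
    ∃ k : ℤ, (χ : G → ℂ) g = (k : ℂ) := by
  classical
  haveI := Fintype.ofFinite G
  refine exists_int_of_pow_fixed (irr_isCharacter χ) fun m hm => ?_
  set χ' : Cfsg.IrrCharacter G :=
    ⟨fun g => (χ : G → ℂ) (g ^ m), OddChar.PowTwist.isIrr_comp_pow χ.2 hm⟩ with hχ'
  have hval : ∀ g, (χ' : G → ℂ) g = (χ : G → ℂ) (g ^ m) := fun g => rfl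
  have hdeg : deg χ' = deg χ := by
    have : (deg χ' : ℂ) = deg χ := by rw [deg_cast, deg_cast, hval, one_pow]
    exact_mod_cast this
  obtain ⟨x, hx1, hx⟩ := D.exists_ne_one
  have hmem : χ' ∈ Cfsg.principalBlock D.M G := by
    by_contra hn
    have h0 := D.eq_zero_of_notMem hC hn hx hx1
    have hc := char_cong_of_commute D.hM χ (Commute.one_right (x ^ m)) (k := 1)
      (by rw [pow_one, D.x_pow (pow_mem hx m)]) (not_dvd_one (G := G))
    rw [mul_one, ← hval, h0, ← deg_cast] at hc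
    exact hnd ((ideal_natCast_iff D.hM _).1 (cong_zero_iff.1 (cong_symm D.hM hc)))
  rw [← hval, huniq χ' hmem hdeg]

/-- With one exceptional character, all members are alike: integer values on `P`, summing to `-1`. -/
theorem PBlock.exists_weights (ht : trivIrr G ∈ D.X) (hts : D.sgn (trivIrr G) = 1)
    (he : D.e = p - 1) :
    ∃ (w : Cfsg.IrrCharacter G → ℤ) (M : Finset (Cfsg.IrrCharacter G)), M.card = D.e ∧
      (∀ χ, χ ∈ M ↔ χ ∈ Cfsg.principalBlock D.M G ∧ χ ≠ trivIrr G) ∧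
      (∀ χ ∈ M, (w χ = 1 ∨ w χ = -1) ∧ (p : ℤ) ∣ w χ - (deg χ : ℤ) ∧
        ∀ x ∈ (P : Subgroup G), x ≠ 1 → (χ : G → ℂ) x = (w χ : ℂ)) ∧
      ∑ χ ∈ M, w χ * (deg χ : ℤ) = -1 := by
  classical
  have hp1 : 0 < p - 1 := by have := D.two_lt; omega
  obtain ⟨θ, hY⟩ := Finset.card_eq_one.1 (show D.Y.card = 1 by rw [D.card_Y, he, Nat.div_self hp1])
  have hθ : θ ∈ D.Y := by rw [hY]; exact Finset.mem_singleton_self θ
  have hθX : θ ∉ D.X := fun h => Finset.disjoint_left.1 D.disj h hθ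
  refine ⟨fun χ => if χ = θ then -D.ε else D.sgn χ, insert θ (D.X.erase (trivIrr G)), ?_, fun χ => ?_,
    fun χ hχ => ?_, ?_⟩
  · rw [Finset.card_insert_of_notMem fun h => hθX (Finset.mem_erase.1 h).2,
      Finset.card_erase_of_mem ht, D.card_X]
    have := D.e_pos
    omega
  · rw [D.mem_block, Finset.mem_insert, Finset.mem_erase, hY, Finset.mem_singleton]
    constructor
    · rintro (rfl | ⟨h1, h2⟩)
      · exact ⟨Or.inr rfl, fun e => hθX (e ▸ ht)⟩
      · exact ⟨Or.inl h2, h1⟩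
    · rintro ⟨h | h, h1⟩
      · exact Or.inr ⟨h1, h⟩
      · exact Or.inl h
  · rcases Finset.mem_insert.1 hχ with rfl | h
    · simp only [if_true]
      refine ⟨by rcases D.ε_eq with e | e <;> omega, ?_, fun x hx hx1 => ?_⟩
      · obtain ⟨c, hc⟩ := Int.modEq_iff_dvd.1 (D.deg_Y χ hθ)
        rw [he, Nat.cast_sub (Fact.out : p.Prime).one_le] at hc
        exact ⟨c - D.ε, by push_cast at hc; linear_combination hc⟩
      · have := D.sum_Y hx hx1
        rw [hY, Finset.sum_singleton] at this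
        rw [this]; push_cast; ring
    · simp only [if_neg fun e : χ = θ => hθX (e ▸ (Finset.mem_erase.1 h).2)]
      exact ⟨D.sgn_eq χ (Finset.mem_erase.1 h).2, Int.modEq_iff_dvd.1 (D.deg_X χ (Finset.mem_erase.1 h).2),
        fun x hx hx1 => D.val_X' (Finset.mem_erase.1 h).2 hx hx1⟩
  · rw [Finset.sum_insert fun h => hθX (Finset.mem_erase.1 h).2]
    beta_reduce
    rw [if_pos rfl,
      Finset.sum_congr rfl fun χ hχ => by rw [if_neg fun e : χ = θ => hθX (e ▸ (Finset.mem_erase.1 hχ).2)]]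
    have h := D.rel_one hθ
    rw [← Finset.add_sum_erase _ _ ht, hts, deg_trivIrr] at h
    push_cast at h
    linear_combination -h

end Cfsg.Agent.PrimeBlock
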