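import Cfsg.Agent.Lib.PrimeBlock.Integer
import Cfsg.Agent.Lib.SmallSimple.Filter

/-!
# There are no simple groups of order `4320` or `5760`
-/

set_option linter.style.haveILetI false

namespace Cfsg.Agent.PrimeBlock.OrdersFive

open Cfsg.Agent.Characters Cfsg.Agent.Blocks Subgroup
open Cfsg.Agent.SmallSimple

universe u

set_option linter.unusedSectionVars false

variable {G : Type u} [Group G] [Finite G] [IsSimpleGroup G] [Fact (Nat.Prime 5)]

/-- The possible non-trivial signed degrees of the principal block at `5`. -/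
abbrev Cand (N : ℕ) (L : List ℤ) : Prop :=
  ∀ d ∈ Finset.range 80, d ∣ N → d * d < N → 1 < d →
    (d % 5 = 1 → (d : ℤ) ∈ L) ∧ (d % 5 = 4 → -(d : ℤ) ∈ L)

theorem signed_mem (hG : ¬ IsMulCommutative G) {N : ℕ} (hN : Nat.card G = N) (hN' : N ≤ 6400)
    {L : List ℤ} (hL : Cand N L) {χ : Cfsg.IrrCharacter G} (hne : χ ≠ trivIrr G) {w : ℤ}
    (hw : w = 1 ∨ w = -1) (hm : (5 : ℤ) ∣ w - (deg χ : ℤ)) : w * (deg χ : ℤ) ∈ L := by
  have h0 : 0 < deg χ := charDegree_pos χ
  have h1 : deg χ ≠ 1 := deg_ne_one hG hne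
  have hsq := deg_sq_lt hne
  rw [hN] at hsq
  have h := hL (deg χ) (Finset.mem_range.2 (by nlinarith)) (hN ▸ char_degree_dvd_card χ) hsq (by omega)
  rcases hw with rfl | rfl
  · simpa using h.1 (by omega)
  · simpa using h.2 (by omega)

/-- With an involution in `C(P)`, a member of the block has degree neither `4`, `6` nor `9`. -/
theorem deg_excluded (hG : ¬ IsMulCommutative G) {P : Sylow 5 G} (D : PBlock P)
    (h2 : 2 ∣ Nat.card (centralizer ((P : Subgroup G) : Set G))) {χ : Cfsg.IrrCharacter G}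
    (hχ : χ ∈ Cfsg.principalBlock D.M G) (hne : χ ≠ trivIrr G) {w : ℤ} (hw : w = 1 ∨ w = -1)
    (hm : (5 : ℤ) ∣ w - (deg χ : ℤ)) {x : G} (hx : x ∈ (P : Subgroup G)) (hx1 : x ≠ 1)
    (hval : (χ : G → ℂ) x = (w : ℂ)) : deg χ ≠ 4 ∧ deg χ ≠ 6 ∧ deg χ ≠ 9 := by
  obtain ⟨v, hv5, hv4, hv⟩ := D.involution_cong hG h2 hχ hne hx hx1 hval
  refine ⟨fun h => ?_, fun h => ?_, fun h => ?_⟩ <;> rw [h] at hv hv4 hm <;> rw [abs_lt] at hv <;>
    rcases hw with rfl | rfl <;> omega

/-- Four even members cannot sum to `-1`. -/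
theorem false_of_even {P : Sylow 5 G} (D : PBlock P) (ht : trivIrr G ∈ D.X)
    (hts : D.sgn (trivIrr G) = 1) (he : D.e = 4)
    (heven : ∀ χ ∈ Cfsg.principalBlock D.M G, χ ≠ trivIrr G → ∀ w : ℤ, (w = 1 ∨ w = -1) →
      (5 : ℤ) ∣ w - (deg χ : ℤ) → (∀ x ∈ (P : Subgroup G), x ≠ 1 → (χ : G → ℂ) x = (w : ℂ)) →
      2 ∣ deg χ) : False := by
  obtain ⟨w, M, -, hM, hw, hsum⟩ := D.exists_weights ht hts he
  have : (2 : ℤ) ∣ ∑ χ ∈ M, w χ * (deg χ : ℤ) := Finset.dvd_sum fun χ hχ => by
    obtain ⟨h1, h2, h3⟩ := hw χ hχ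
    exact (Int.natCast_dvd_natCast.2 (heven χ ((hM χ).1 hχ).1 ((hM χ).1 hχ).2 _ h1 h2 h3)).mul_left _
  rw [hsum] at this
  norm_num at this

/-- The data at `5`. -/
theorem setup (hG : ¬ IsMulCommutative G) {N m : ℕ} (hN : Nat.card G = N) (hm : N = 5 * m)
    (hnd : ¬ 5 ∣ m) : ∃ (P : Sylow 5 G) (D : PBlock P) (k : ℕ), trivIrr G ∈ D.X ∧
      D.sgn (trivIrr G) = 1 ∧ (D.e = 2 ∨ D.e = 4) ∧
      Nat.card (centralizer ((P : Subgroup G) : Set G)) = 5 * k ∧
      k * D.e * Nat.card (Sylow 5 G) = m ∧ Nat.card (Sylow 5 G) ∣ m ∧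
      Nat.card (Sylow 5 G) % 5 = 1 ∧ 1 < Nat.card (Sylow 5 G) ∧
      2 * N ∣ (Nat.card (Sylow 5 G)).factorial := by
  obtain ⟨P⟩ : Nonempty (Sylow 5 G) := inferInstance
  have hP : Nat.card (P : Subgroup G) = 5 := by
    rw [Basic.card_sylow_eq_pow (a := 1) (m := m) (by rw [hN, hm, pow_one]) hnd P, pow_one]
  obtain ⟨h1, h2, h3, h4⟩ := Basic.sylow_count (p := 5) hG (by rw [hN, hm]; exact dvd_mul_right _ _)
    (a := 1) (m := m) (by rw [hN, hm, pow_one]) hnd
  obtain ⟨e, he, he1, hNe, -⟩ := Centralize.centralizer_data hG P hP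
  obtain ⟨D, ht, hts⟩ := exists_pblock' hG (by norm_num) P hP
  set C := centralizer ((P : Subgroup G) : Set G) with hC
  have hDe : D.e = e := by
    have := relIndex_mul_relIndex ⊥ C (normalizer ((P : Subgroup G) : Set G)) bot_le
      (centralizer_le_normalizer _)
    rw [relIndex_bot_left, relIndex_bot_left, hNe, D.he] at this
    exact Nat.eq_of_mul_eq_mul_left Nat.card_pos this
  obtain ⟨k, hk⟩ : 5 ∣ Nat.card C := by
    rw [← hP]
    refine card_dvd_of_le fun x hx => mem_centralizer_iff.2 fun y hy => ?_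
    haveI : IsCyclic (P : Subgroup G) := isCyclic_of_prime_card hP
    letI := IsCyclic.commGroup (α := (P : Subgroup G))
    exact congrArg Subtype.val (mul_comm (⟨y, hy⟩ : (P : Subgroup G)) ⟨x, hx⟩)
  refine ⟨P, D, k, ht, hts, ?_, hk, ?_, h1, h2, h3, hN ▸ h4⟩
  · have : ∀ d ∈ Finset.range 5, d ∣ 4 → 1 < d → d = 2 ∨ d = 4 := by decide +kernel
    rw [hDe]
    exact this e (Finset.mem_range.2 (by have := Nat.le_of_dvd (by norm_num) he; omega)) he he1
  · have := Basic.card_normalizer_mul P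
    rw [hNe, hk, hN, hm, ← hDe] at this
    rw [← Nat.mul_left_cancel_iff (show 0 < 5 by norm_num), ← this]
    ring

/-- With two exceptional characters the relation leaves one of few degrees. -/
theorem two_cases (hG : ¬ IsMulCommutative G) {N : ℕ} (hN : Nat.card G = N) (hN' : N ≤ 6400)
    {L : List ℤ} (hL : Cand N L) {P : Sylow 5 G} (D : PBlock P) (ht : trivIrr G ∈ D.X)
    (hts : D.sgn (trivIrr G) = 1) (he : D.e = 2) :
    ∃ χ θ, χ ∈ D.X ∧ χ ≠ trivIrr G ∧ θ ∈ D.Y ∧ θ ≠ trivIrr G ∧ D.sgn χ * (deg χ : ℤ) ∈ L ∧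
      deg θ = (1 + D.sgn χ * (deg χ : ℤ)).natAbs ∧ deg θ ∣ N ∧ deg θ ≠ 1 ∧
      ∀ ψ ∈ D.X, ψ ≠ trivIrr G → ψ = χ := by
  classical
  obtain ⟨χ, hχ⟩ := Finset.card_eq_one.1 (show (D.X.erase (trivIrr G)).card = 1 by
    rw [Finset.card_erase_of_mem ht, D.card_X, he])
  have hχm := Finset.mem_erase.1 (show χ ∈ D.X.erase (trivIrr G) by rw [hχ]; exact Finset.mem_singleton_self χ)
  obtain ⟨θ, hθ⟩ := D.Y_nonempty
  have hθne : θ ≠ trivIrr G := fun e => Finset.disjoint_left.1 D.disj ht (e ▸ hθ)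
  have hrel := D.rel_one hθ
  rw [← Finset.add_sum_erase _ _ ht, hχ, Finset.sum_singleton, hts, deg_trivIrr] at hrel
  refine ⟨χ, θ, hχm.2, hχm.1, hθ, hθne, signed_mem hG hN hN' hL hχm.1 (D.sgn_eq χ hχm.2)
    (Int.modEq_iff_dvd.1 (D.deg_X χ hχm.2)), ?_, hN ▸ char_degree_dvd_card θ, deg_ne_one hG hθne,
    fun ψ hψ hne => Finset.mem_singleton.1 (hχ ▸ Finset.mem_erase.2 ⟨hne, hψ⟩)⟩
  rcases D.ε_eq with e | e <;> rw [e] at hrel <;> push_cast at hrel <;> omega

theorem cand_4320 : Cand 4320 [-4, 6, -9, 16, -24, 36, -54] := by decide +kernel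

theorem cand_5760 : Cand 5760 [-4, 6, -9, 16, -24, 36, -64] := by decide +kernel

theorem four_cases : ∀ a ∈ [-4, 6, -9, 16, -24, 36, (-54 : ℤ)], ∀ b ∈ [-4, 6, -9, 16, -24, 36, (-54 : ℤ)],
    ∀ c ∈ [-4, 6, -9, 16, -24, 36, (-54 : ℤ)], ∀ d ∈ [-4, 6, -9, 16, -24, 36, (-54 : ℤ)],
    a + (b + (c + d)) = -1 → [a, b, c, d].count (-4) ≠ 1 →
      ∀ T ∈ [a, b, c, d].sublists, (∀ z ∈ T, z ≠ -9) → ¬ (27 : ℤ) ∣ 1 + T.sum := by decide +kernel

theorem factorization_eq {N q b m : ℕ} (hq : q.Prime) (h : N = q ^ b * m) (hm : ¬ q ∣ m) :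
    N.factorization q = b := by
  have hm0 : m ≠ 0 := by rintro rfl; exact hm (dvd_zero q)
  rw [h, Nat.factorization_mul (pow_ne_zero _ hq.ne_zero) hm0, Finsupp.add_apply,
    hq.factorization_pow, Nat.factorization_eq_zero_of_not_dvd hm]
  simp

theorem ne_5760 : Nat.card G ≠ 5760 := by
  intro hN
  classical
  have hG : ¬ IsMulCommutative G := Basic.not_comm_of_not_prime (by rw [hN]; norm_num)
  obtain ⟨P, D, k, ht, hts, he, hk, hprod, hnd, hnm, hn1, hnf⟩ :=
    setup hG hN (m := 1152) (by norm_num) (by norm_num)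
  have hn : Nat.card (Sylow 5 G) ∈ [6, 16, 36, 96, 576] := by
    have : ∀ n ∈ Finset.range 1153, n ∣ 1152 → n % 5 = 1 → 1 < n → n ∈ [6, 16, 36, 96, 576] := by
      decide +kernel
    exact this _ (Finset.mem_range.2 (Nat.lt_succ_of_le (Nat.le_of_dvd (by norm_num) hnd))) hnd hnm hn1
  simp only [List.mem_cons, List.not_mem_nil, or_false] at hn
  obtain ⟨x, hx1, hx⟩ := D.exists_ne_one
  have hC2 : 2 ∣ k → 2 ∣ Nat.card (centralizer ((P : Subgroup G) : Set G)) := fun h => hk ▸ h.mul_left 5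
  have hsmall : 1 < k → ∀ χ ∈ Cfsg.principalBlock D.M G, χ ≠ trivIrr G → ¬ deg χ < 5 :=
    fun hk1 χ hχ hne hlt => by
      have := D.card_centralizer hG hχ hne hlt
      omega
  rcases he with he | he <;> rw [he] at hprod
  · obtain ⟨χ, θ, hχ, hχne, hθ, hθne, hz, hθd, hθN, hθ1, huniq⟩ :=
      two_cases hG hN (by norm_num) cand_5760 D ht hts he
    have hχB := (D.mem_block χ).2 (Or.inl hχ)
    simp only [List.mem_cons, List.not_mem_nil, or_false] at hz
    have hsg := D.sgn_eq χ hχ
    by_cases h2 : 2 ∣ k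
    · obtain ⟨e4, e6, e9⟩ := deg_excluded hG D (hC2 h2) hχB hχne hsg
        (Int.modEq_iff_dvd.1 (D.deg_X χ hχ)) hx hx1 (D.val_X' hχ hx hx1)
      rcases hz with h | h | h | h | h | h | h <;> rw [h] at hθd <;>
        (try (exfalso; rcases hsg with e | e <;> rw [e] at h <;> omega)) <;>
        norm_num at hθd <;> rw [hθd] at hθN <;> norm_num at hθN
    · rcases hn with hn | hn | hn | hn | hn <;> rw [hn] at hprod
      · rw [hn] at hnf; norm_num [Nat.factorial] at hnf
      · omega
      · omega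
      · omega
      have hk1 : k = 1 := by omega
      subst hk1
      rcases hz with h | h | h | h | h | h | h <;> rw [h] at hθd <;> norm_num at hθd <;>
        (try (rw [hθd] at hθN; norm_num at hθN; done))
      · -- degree 3
        haveI : Fact (Nat.Prime 2) := ⟨Nat.prime_two⟩
        have hC : Nat.card (centralizer ((P : Subgroup G) : Set G)) = 5 := by rw [hk]
        have hb := blichfeldt (q := 2) θ
          ((Finset.Ioo (-(deg θ : ℤ)) (deg θ)).filter (fun v => (2 : ℤ) ∣ (deg θ : ℤ) - v))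
          fun g hg ⟨j, hj⟩ => by
            obtain ⟨v, hv⟩ := D.exists_int hC hθ (by omega) (by omega) (g := g) (fun h5 => by
              rw [hj] at h5
              have := (Nat.Prime.dvd_of_dvd_pow (by norm_num : Nat.Prime 5) h5)
              norm_num at this)
            exact ⟨v, value_mem hG Nat.prime_two hθne hg hj hv, hv⟩
        rw [hN, factorization_eq Nat.prime_two (b := 7) (m := 45) (by norm_num) (by norm_num), hθd] at hb
        revert hb
        decide +kernel
      · -- degree 8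
        obtain ⟨M2, hM2⟩ := BlockCharsA.DefectZeroVanish.exists_modular Nat.prime_two
        have hna : ∃ a b : G, a * b ≠ b * a := by
          by_contra hc
          push Not at hc
          exact hG ⟨⟨hc⟩⟩
        have hnotY : ∀ ψ ∈ D.Y, ψ ≠ trivIrr G → ψ ∉ Cfsg.principalBlock M2 G := fun ψ hψ hne hmem =>
          hne (eq_trivIrr_of_degree_pow hM2 hna hmem (k := 3) (by
            rw [← deg_cast, D.deg_Y_eq hψ hθ, hθd]; norm_num))
        obtain ⟨S, hS, hdvd⟩ := D.pq_sum hG Nat.prime_two (by norm_num)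
          (by rw [hk]; norm_num) hM2 hx hx1 D.sgn fun ψ hψ hψ2 hne => by
            rcases (D.mem_block ψ).1 hψ with h | h
            · exact D.val_X' h hx hx1
            · exact absurd hψ2 (hnotY ψ h hne)
        have hsub : S ⊆ {χ} := fun ψ hψ => by
          obtain ⟨h1, h2, h3, -⟩ := hS ψ hψ
          rcases (D.mem_block ψ).1 h1 with h | h
          · exact Finset.mem_singleton.2 (huniq ψ h h3)
          · exact absurd h2 (hnotY ψ h h3)
        rw [hN, factorization_eq Nat.prime_two (b := 7) (m := 45) (by norm_num) (by norm_num)] at hdvd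
        rcases Finset.subset_singleton_iff.1 hsub with e | e <;> rw [e] at hdvd
        · norm_num at hdvd
        · rw [Finset.sum_singleton, h] at hdvd; norm_num at hdvd
  · refine false_of_even D ht hts he fun χ hχ hne w hw hm hval => ?_
    have hzL := signed_mem hG hN (by norm_num) cand_5760 hne hw hm
    simp only [List.mem_cons, List.not_mem_nil, or_false] at hzL
    have hnine : deg χ ≠ 9 := by
      intro h9
      rcases hn with hn | hn | hn | hn | hn <;> rw [hn] at hprod
      · rw [hn] at hnf; norm_num [Nat.factorial] at hnf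
      · exact (deg_excluded hG D (hC2 (by omega)) hχ hne hw hm hx hx1 (hval x hx hx1)).2.2 h9
      · exact (deg_excluded hG D (hC2 (by omega)) hχ hne hw hm hx hx1 (hval x hx hx1)).2.2 h9
      · refine D.not_full (q := 3) Nat.prime_three (by norm_num) (by rw [hk]; omega) hχ ?_
        rw [hN, factorization_eq Nat.prime_three (b := 2) (m := 640) (by norm_num) (by norm_num), h9]
        norm_num
      · omega
    rcases hw with rfl | rfl <;> omega

theorem ne_4320 : Nat.card G ≠ 4320 := by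
  intro hN
  classical
  have hG : ¬ IsMulCommutative G := Basic.not_comm_of_not_prime (by rw [hN]; norm_num)
  obtain ⟨P, D, k, ht, hts, he, hk, hprod, hnd, hnm, hn1, hnf⟩ :=
    setup hG hN (m := 864) (by norm_num) (by norm_num)
  have hn : Nat.card (Sylow 5 G) ∈ [6, 16, 36, 96, 216] := by
    have : ∀ n ∈ Finset.range 865, n ∣ 864 → n % 5 = 1 → 1 < n → n ∈ [6, 16, 36, 96, 216] := by
      decide +kernel
    exact this _ (Finset.mem_range.2 (Nat.lt_succ_of_le (Nat.le_of_dvd (by norm_num) hnd))) hnd hnm hn1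
  simp only [List.mem_cons, List.not_mem_nil, or_false] at hn
  obtain ⟨x, hx1, hx⟩ := D.exists_ne_one
  have hC2 : 2 ∣ k → 2 ∣ Nat.card (centralizer ((P : Subgroup G) : Set G)) := fun h => hk ▸ h.mul_left 5
  have h16 : Nat.card (Sylow 5 G) = 16 → False := fun hn => by
    rw [hn] at hprod
    rcases he with he | he <;> rw [he] at hprod
    · have hk27 : k = 27 := by omega
      have hidx : (centralizer ({x} : Set G)).index = 2 ^ 5 := by
        have h := card_mul_index (centralizer ({x} : Set G))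
        rw [D.centralizer_eq hx hx1, hk, hk27, hN] at h
        rw [D.centralizer_eq hx hx1]
        omega
      have := simple_prime_power_class Nat.prime_two hx1 hidx
      rw [hN] at this
      norm_num at this
    · omega
  rcases he with he | he <;> rw [he] at hprod
  · obtain ⟨χ, θ, hχ, hχne, hθ, hθne, hz, hθd, hθN, hθ1, -⟩ :=
      two_cases hG hN (by norm_num) cand_4320 D ht hts he
    have hχB := (D.mem_block χ).2 (Or.inl hχ)
    simp only [List.mem_cons, List.not_mem_nil, or_false] at hz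
    have hsg := D.sgn_eq χ hχ
    have h2 : 2 ∣ k := by
      rcases hn with hn | hn | hn | hn | hn
      · rw [hn] at hnf; norm_num [Nat.factorial] at hnf
      · exact (h16 hn).elim
      all_goals rw [hn] at hprod; omega
    obtain ⟨e4, e6, e9⟩ := deg_excluded hG D (hC2 h2) hχB hχne hsg
      (Int.modEq_iff_dvd.1 (D.deg_X χ hχ)) hx hx1 (D.val_X' hχ hx hx1)
    rcases hz with h | h | h | h | h | h | h <;> rw [h] at hθd <;>
      (try (exfalso; rcases hsg with e | e <;> rw [e] at h <;> omega)) <;>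
      norm_num at hθd <;> rw [hθd] at hθN <;> norm_num at hθN
  · by_cases h2 : 2 ∣ k
    · refine false_of_even D ht hts he fun χ hχ hne w hw hm hval => ?_
      have hzL := signed_mem hG hN (by norm_num) cand_4320 hne hw hm
      simp only [List.mem_cons, List.not_mem_nil, or_false] at hzL
      have := (deg_excluded hG D (hC2 h2) hχ hne hw hm hx hx1 (hval x hx hx1)).2.2
      rcases hw with rfl | rfl <;> omega
    have hk1 : k = 1 := by
      rcases hn with hn | hn | hn | hn | hn
      · rw [hn] at hnf; norm_num [Nat.factorial] at hnf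
      · exact (h16 hn).elim
      all_goals rw [hn] at hprod; omega
    subst hk1
    have hC : Nat.card (centralizer ((P : Subgroup G) : Set G)) = 5 := by rw [hk]
    obtain ⟨w, M, hMc, hM, hw, hsum⟩ := D.exists_weights ht hts he
    haveI : Fact (Nat.Prime 3) := ⟨Nat.prime_three⟩
    have hcand : ∀ χ ∈ M, w χ * (deg χ : ℤ) ∈ [-4, 6, -9, 16, -24, 36, (-54 : ℤ)] := fun χ hχ =>
      signed_mem hG hN (by norm_num) cand_4320 ((hM χ).1 hχ).2 (hw χ hχ).1 (hw χ hχ).2.1
    have hfac : (Nat.card G).factorization 3 = 3 := by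
      rw [hN]; exact factorization_eq Nat.prime_three (m := 160) (by norm_num) (by norm_num)
    have hcount : (M.toList.map fun χ => w χ * (deg χ : ℤ)).count (-4) ≠ 1 := by
      intro h1
      have hfilt : (M.filter fun χ => deg χ = 4).card = 1 := by
        rw [← h1, List.count_eq_countP, List.countP_map, List.countP_eq_length_filter,
          ← Finset.length_toList]
        refine (List.Perm.length_eq ?_)
        refine (List.perm_ext_iff_of_nodup (Finset.nodup_toList _) ((Finset.nodup_toList _).filter _)).2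
          fun χ => ?_
        simp only [Finset.mem_toList, Finset.mem_filter, List.mem_filter, Function.comp_apply,
          beq_iff_eq]
        constructor <;> rintro ⟨hχ, hd4⟩ <;> refine ⟨hχ, ?_⟩ <;> have hc := hcand χ hχ <;>
          simp only [List.mem_cons, List.not_mem_nil, or_false] at hc <;>
          rcases (hw χ hχ).1 with e | e <;> simp only [e] at hc hd4 ⊢ <;> omega
      obtain ⟨χ, hχ⟩ := Finset.card_eq_one.1 hfilt
      obtain ⟨hχM, hχ4⟩ := Finset.mem_filter.1
        (show χ ∈ M.filter fun χ => deg χ = 4 by rw [hχ]; exact Finset.mem_singleton_self χ)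
      have hint := D.int_of_unique hC ((hM χ).1 hχM).1 (by rw [hχ4]; norm_num) fun ψ hψ hd => by
        refine Finset.mem_singleton.1 (hχ ▸ Finset.mem_filter.2 ⟨(hM ψ).2 ⟨hψ, fun e => ?_⟩, by
          rw [hd, hχ4]⟩)
        rw [e, deg_trivIrr, hχ4] at hd
        norm_num at hd
      have hb := blichfeldt (q := 3) χ
        ((Finset.Ioo (-(deg χ : ℤ)) (deg χ)).filter (fun v => (3 : ℤ) ∣ (deg χ : ℤ) - v))
        fun g hg ⟨j, hj⟩ => by
          obtain ⟨v, hv⟩ := hint g
          exact ⟨v, value_mem hG Nat.prime_three ((hM χ).1 hχM).2 hg hj hv, hv⟩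
      rw [hfac, hχ4] at hb
      revert hb
      decide +kernel
    obtain ⟨M3, hM3⟩ := BlockCharsA.DefectZeroVanish.exists_modular Nat.prime_three
    obtain ⟨S, hS, hdvd⟩ := D.pq_sum hG Nat.prime_three (by norm_num) (by rw [hk]; norm_num) hM3 hx hx1 w
      fun χ hχ _ hne => (hw χ ((hM χ).2 ⟨hχ, hne⟩)).2.2 x hx hx1
    rw [hfac] at hdvd
    have hSM : S ⊆ M := fun χ hχ => (hM χ).2 ⟨(hS χ hχ).1, (hS χ hχ).2.2.1⟩
    have hT : ((M.toList.filter fun χ => decide (χ ∈ S)).map fun χ => w χ * (deg χ : ℤ)).sum =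
        ∑ χ ∈ S, w χ * (deg χ : ℤ) := by
      rw [← List.sum_toFinset _ ((Finset.nodup_toList M).filter _)]
      refine Finset.sum_congr ?_ fun _ _ => rfl
      ext χ
      simp only [List.mem_toFinset, List.mem_filter, Finset.mem_toList, decide_eq_true_eq]
      exact ⟨fun h => h.2, fun h => ⟨hSM h, h⟩⟩
    have hTs : ((M.toList.filter fun χ => decide (χ ∈ S)).map fun χ => w χ * (deg χ : ℤ)).Sublist
        (M.toList.map fun χ => w χ * (deg χ : ℤ)) := (List.filter_sublist).map _
    have hTok : ∀ z ∈ (M.toList.filter fun χ => decide (χ ∈ S)).map fun χ => w χ * (deg χ : ℤ),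
        z ≠ -9 := by
      intro z hz
      obtain ⟨χ, hχ, rfl⟩ := List.mem_map.1 hz
      simp only [List.mem_filter, Finset.mem_toList, decide_eq_true_eq] at hχ
      have hne := (hS χ hχ.2).2.2.2 2
      rcases (hw χ hχ.1).1 with e | e <;> rw [e] <;> omega
    have hlen : (M.toList.map fun χ => w χ * (deg χ : ℤ)).length = 4 := by
      rw [List.length_map, Finset.length_toList, hMc, he]
    rw [← Finset.sum_map_toList] at hsum
    have hall : ∀ z ∈ M.toList.map fun χ => w χ * (deg χ : ℤ), z ∈ [-4, 6, -9, 16, -24, 36, (-54 : ℤ)] := by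
      intro z hz
      obtain ⟨χ, hχ, rfl⟩ := List.mem_map.1 hz
      exact hcand χ (Finset.mem_toList.1 hχ)
    rw [← hT] at hdvd
    revert hcount hTs hTok hlen hsum hall hdvd
    generalize ((M.toList.filter fun χ => decide (χ ∈ S)).map fun χ => w χ * (deg χ : ℤ)) = T
    generalize (M.toList.map fun χ => w χ * (deg χ : ℤ)) = L
    intro hsum hcount hdvd hTs hTok hlen hall
    match L, hlen with
    | [a, b, c, d], _ =>
      simp only [List.sum_cons, List.sum_nil, add_zero] at hsum
      refine four_cases a (hall a (by simp)) b (hall b (by simp)) c (hall c (by simp)) d (hall d (by simp))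
        hsum hcount T (List.mem_sublists.2 hTs) hTok ?_
      simpa using hdvd

end Cfsg.Agent.PrimeBlock.OrdersFive
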