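import Cfsg.Agent.Lib.PrimeBlock.Simple

/-!
# The bound `p ≤ 2e + 1` for an exceptional character of degree `e`, and section counts
-/

set_option linter.style.haveILetI false
set_option linter.unusedSectionVars false

namespace Cfsg.Agent.PrimeBlock

open Cfsg.Agent.Characters Cfsg.Agent.Blocks Subgroup
open scoped ComplexConjugate

universe u

variable {G : Type u} [Group G] [Finite G] {p : ℕ} [Fact p.Prime] {P : Sylow p G} (D : PBlock P)
include D

theorem PBlock.exists_ne_one : ∃ x, x ≠ 1 ∧ x ∈ (P : Subgroup G) := by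
  haveI : Nontrivial (P : Subgroup G) :=
    Finite.one_lt_card_iff_nontrivial.1 (by rw [D.card_P]; exact (Fact.out : p.Prime).one_lt)
  obtain ⟨x, hx⟩ := exists_ne (1 : (P : Subgroup G))
  exact ⟨x, fun e => hx (Subtype.ext e), x.2⟩

theorem PBlock.not_dvd_of_mem_erase {i : ℕ} (hi : i ∈ (Finset.range p).erase 0) : ¬ p ∣ i := fun hd => by
  have := Nat.le_of_dvd (Nat.pos_of_ne_zero (Finset.mem_erase.1 hi).1) hd
  have := Finset.mem_range.1 (Finset.mem_erase.1 hi).2
  omega

theorem PBlock.e_bound [IsSimpleGroup G] (hG : ¬ IsMulCommutative G) {θ : Cfsg.IrrCharacter G}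
    (hθ : θ ∈ D.Y) (hdeg : deg θ = D.e) (he : 1 < D.e) :
    p + 1 ≤ 2 * (D.e + 1) ∧ (p + 1 = 2 * (D.e + 1) → p + 1 ∣ Nat.card G) := by
  classical
  haveI := Fintype.ofFinite G
  haveI := Fintype.ofFinite (Cfsg.IrrCharacter G)
  have hp : p.Prime := Fact.out
  have hlt : deg θ < p := hdeg ▸ D.e_lt
  have hε : D.ε = 1 := by
    rcases D.degree_small hθ hlt with ⟨-, h⟩ | ⟨h, -⟩
    · exact h
    · exfalso
      obtain ⟨k, hk⟩ := hp.odd_of_ne_two D.odd
      omega
  have hθ1 : θ ≠ trivIrr G := fun h => by rw [h, deg_trivIrr] at hdeg; omega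
  have hC := D.card_centralizer hG ((D.mem_block θ).2 (Or.inr hθ)) hθ1 hlt
  obtain ⟨x, hx1, hx⟩ := D.exists_ne_one
  set S : (G → ℂ) → ℂ := fun f => ∑ i ∈ Finset.range p, f (x ^ i) with hS
  -- the exceptional characters have no eigenvalue `1`
  have hY0 : ∀ θ' ∈ D.Y, S (θ' : G → ℂ) = 0 := by
    have hm : ∀ θ' : Cfsg.IrrCharacter G, ∃ m : ℕ, S (θ' : G → ℂ) = (p : ℂ) * m := fun θ' =>
      sum_powers (irr_isCharacter θ') hp.ne_zero (D.x_pow hx)
    choose m hm using hm
    have htot : (p : ℂ) * ∑ θ' ∈ D.Y, (m θ' : ℂ) = 0 := by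
      rw [Finset.mul_sum, ← Finset.sum_congr rfl fun θ' _ => hm θ']
      simp only [S]
      rw [Finset.sum_comm, range_split (p := p) D, Finset.sum_congr (s₁ := (Finset.range p).erase 0) rfl
        fun i hi => D.sum_Y (pow_mem hx i) (D.pow_ne_one hx hx1 (D.not_dvd_of_mem_erase hi))]
      simp only [pow_zero, ← deg_cast]
      rw [Finset.sum_congr (s₁ := D.Y) rfl fun θ' hθ' => by rw [D.deg_Y_eq hθ' hθ, hdeg],
        Finset.sum_const, Finset.sum_const, Finset.card_erase_of_mem (Finset.mem_range.2 hp.pos),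
        Finset.card_range, nsmul_eq_mul, nsmul_eq_mul, Nat.cast_sub hp.one_le, Nat.cast_one,
        ← D.e_mul, hε]
      push_cast
      ring
    have htot' : ∑ θ' ∈ D.Y, m θ' = 0 := by
      exact_mod_cast (mul_eq_zero.1 htot).resolve_left (Nat.cast_ne_zero.2 hp.ne_zero)
    intro θ' hθ'
    rw [hm, Finset.sum_eq_zero_iff.1 htot' θ' hθ', Nat.cast_zero, mul_zero]
  -- the weight of each constituent
  have hweight : ∀ χ : Cfsg.IrrCharacter G, χ ≠ trivIrr G → ∃ s : ℤ, S (χ : G → ℂ) = (s : ℂ) ∧
      ((p : ℤ) + 1) * s ≤ 2 * p * deg χ ∧ ((p + 1 : ℤ) * s = 2 * p * deg χ → deg χ = p + 1) := by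
    intro χ hχ
    have hf : 2 ≤ deg χ := by
      have h0 : 0 < deg χ := charDegree_pos χ
      have h1 : deg χ ≠ 1 := deg_ne_one hG hχ
      omega
    have hp3 : 3 ≤ p := D.two_lt
    by_cases hB : χ ∈ Cfsg.principalBlock D.M G
    · rcases (D.mem_block χ).1 hB with hX | hY
      · refine ⟨deg χ + ((p : ℤ) - 1) * D.sgn χ, ?_, ?_⟩
        · simp only [S]
          rw [range_split (p := p) D, Finset.sum_congr (s₁ := (Finset.range p).erase 0) rfl fun i hi =>
            D.val_X' hX (pow_mem hx i) (D.pow_ne_one hx hx1 (D.not_dvd_of_mem_erase hi)),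
            Finset.sum_const, Finset.card_erase_of_mem (Finset.mem_range.2 hp.pos), Finset.card_range,
            pow_zero, ← deg_cast, nsmul_eq_mul, Nat.cast_sub hp.one_le]
          push_cast
          ring
        · obtain ⟨c, hc⟩ := Int.modEq_iff_dvd.1 (D.deg_X χ hX)
          rcases D.sgn_eq χ hX with e | e <;> rw [e] at hc ⊢
          · have hge : (p : ℤ) + 1 ≤ deg χ := by
              have : c < 0 := by
                by_contra hc0
                push Not at hc0
                nlinarith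
              nlinarith
            refine ⟨by nlinarith, fun h => ?_⟩
            have : ((p : ℤ) - 1) * ((deg χ : ℤ) - (p + 1)) = 0 := by linear_combination -h
            rcases mul_eq_zero.1 this with h' | h'
            · omega
            · omega
          · refine ⟨by nlinarith, fun h => ?_⟩
            exfalso
            nlinarith
      · refine ⟨0, by rw [hY0 χ hY, Int.cast_zero], by positivity, fun h => ?_⟩
        exfalso
        nlinarith
    · refine ⟨deg χ, ?_, by nlinarith, fun h => ?_⟩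
      · simp only [S]
        rw [range_split (p := p) D, Finset.sum_eq_zero fun i hi =>
          D.eq_zero_of_notMem hC hB (pow_mem hx i) (D.pow_ne_one hx hx1 (D.not_dvd_of_mem_erase hi)),
          pow_zero, ← deg_cast, add_zero]
        simp
      · exfalso
        nlinarith
  choose! s hs hsle hseq using hweight
  -- the constituents of `θ * conj θ`
  set φ : G → ℂ := (θ : G → ℂ) * fun g => conj ((θ : G → ℂ) g) with hφ
  obtain ⟨n, hn⟩ := char_eq_sum_nat (G := G) (χ := φ)
    (isCharacter_mul (irr_isCharacter θ) (isCharacter_conj (irr_isCharacter θ)))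
  have hval : ∀ g, φ g = ∑ χ : Cfsg.IrrCharacter G, (n χ : ℂ) * (χ : G → ℂ) g := fun g => by
    have := congrFun hn g
    simpa [Finset.sum_apply, smul_eq_mul] using this
  have hn1 : n (trivIrr G) = 1 := by
    have h1 := classInner_sum_smul_irr (c := fun χ : Cfsg.IrrCharacter G => (n χ : ℂ)) Finset.univ
      (trivIrr G)
    rw [← hn, if_pos (Finset.mem_univ _)] at h1
    have h2 : Cfsg.classInner φ ((trivIrr G : Cfsg.IrrCharacter G) : G → ℂ) =
        Cfsg.classInner (θ : G → ℂ) (θ : G → ℂ) := by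
      rw [classInner_def, classInner_def]
      simp [φ]
    rw [h2, classInner_isIrr_self θ.2] at h1
    exact_mod_cast h1.symm
  have hd : (∑ χ ∈ Finset.univ.erase (trivIrr G), (n χ : ℤ) * deg χ) = (D.e : ℤ) * D.e - 1 := by
    have h1 := hval 1
    simp only [φ, Pi.mul_apply, ← deg_cast, map_natCast, hdeg] at h1
    rw [← Finset.add_sum_erase _ _ (Finset.mem_univ (trivIrr G)), hn1, deg_trivIrr] at h1
    have h2 : (D.e : ℤ) * D.e = ((1 : ℕ) : ℤ) * ((1 : ℕ) : ℤ) +
        ∑ χ ∈ Finset.univ.erase (trivIrr G), (n χ : ℤ) * deg χ := by exact_mod_cast h1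
    push_cast at h2
    linarith
  have hw : (∑ χ ∈ Finset.univ.erase (trivIrr G), (n χ : ℤ) * s χ) = (p : ℤ) * D.e - p := by
    have h1 : S φ = (p : ℂ) * D.e := by
      simp only [S, φ, Pi.mul_apply]
      rw [D.norm_small hθ hlt hx hx1, hdeg]
    simp only [S, hval] at h1
    rw [Finset.sum_comm, ← Finset.add_sum_erase _ _ (Finset.mem_univ (trivIrr G))] at h1
    rw [Finset.sum_congr (s₁ := Finset.univ.erase (trivIrr G)) rfl fun χ hχ => show
      ∑ i ∈ Finset.range p, (n χ : ℂ) * (χ : G → ℂ) (x ^ i) = (((n χ : ℤ) * s χ : ℤ) : ℂ) by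
        rw [← Finset.mul_sum]
        push_cast
        rw [← hs χ (Finset.mem_erase.1 hχ).1],
      ← Finset.mul_sum, hn1] at h1
    simp only [trivIrr_coe, Finset.sum_const, Finset.card_range, nsmul_one, Nat.cast_one, one_mul] at h1
    rw [← Int.cast_sum] at h1
    have h2 : ((∑ χ ∈ Finset.univ.erase (trivIrr G), (n χ : ℤ) * s χ : ℤ) : ℂ) =
        (((p : ℤ) * D.e - p : ℤ) : ℂ) := by push_cast at h1 ⊢; linear_combination h1
    exact_mod_cast h2
  have hnn : ∀ χ ∈ Finset.univ.erase (trivIrr G),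
      0 ≤ (n χ : ℤ) * (2 * p * deg χ - ((p : ℤ) + 1) * s χ) := fun χ hχ =>
    mul_nonneg (Int.natCast_nonneg _) (by have := hsle χ (Finset.mem_erase.1 hχ).1; linarith)
  have hkey : ∑ χ ∈ Finset.univ.erase (trivIrr G), (n χ : ℤ) * (2 * p * deg χ - ((p : ℤ) + 1) * s χ) =
      2 * p * ((D.e : ℤ) * D.e - 1) - ((p : ℤ) + 1) * ((p : ℤ) * D.e - p) := by
    rw [← hd, ← hw, Finset.mul_sum, Finset.mul_sum, ← Finset.sum_sub_distrib]
    exact Finset.sum_congr rfl fun χ _ => by ring
  have hfac : 2 * (p : ℤ) * ((D.e : ℤ) * D.e - 1) - ((p : ℤ) + 1) * ((p : ℤ) * D.e - p) =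
      (p : ℤ) * ((D.e : ℤ) - 1) * (2 * ((D.e : ℤ) + 1) - ((p : ℤ) + 1)) := by ring
  rw [hfac] at hkey
  have hpos : 0 < (p : ℤ) * ((D.e : ℤ) - 1) := mul_pos (by exact_mod_cast hp.pos) (by omega)
  refine ⟨?_, fun heq => ?_⟩
  · have := hkey ▸ Finset.sum_nonneg hnn
    have := nonneg_of_mul_nonneg_right this hpos
    omega
  · have h0 : 2 * ((D.e : ℤ) + 1) - ((p : ℤ) + 1) = 0 := by omega
    rw [h0, mul_zero] at hkey
    obtain ⟨χ, hχ, hχn⟩ : ∃ χ ∈ Finset.univ.erase (trivIrr G), (n χ : ℤ) * deg χ ≠ 0 := by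
      refine Finset.exists_ne_zero_of_sum_ne_zero ?_
      rw [hd]
      have : (2 : ℤ) ≤ D.e := by exact_mod_cast he
      nlinarith
    have := (Finset.sum_eq_zero_iff_of_nonneg hnn).1 hkey χ hχ
    have hs0 := (mul_eq_zero.1 this).resolve_left (left_ne_zero_of_mul hχn)
    rw [← hseq χ (Finset.mem_erase.1 hχ).1 (by linarith)]
    exact char_degree_dvd_card χ

/-- The singular elements are few. -/
theorem PBlock.singular_le [Fintype G] :
    (Finset.univ.filter fun g : G => p ∣ orderOf g).card * (p * D.e) ≤ Nat.card G * (p - 1) := by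
  classical
  haveI := Fintype.ofFinite (Sylow p G)
  set N := normalizer ((P : Subgroup G) : Set G) with hN
  have hconj : ∀ Q : Sylow p G, Nat.card (centralizer ((Q : Subgroup G) : Set G)) =
      Nat.card (centralizer ((P : Subgroup G) : Set G)) := by
    intro Q
    obtain ⟨a, rfl⟩ := MulAction.exists_smul_eq G P Q
    rw [← Blocks.card_map_conj (centralizer ((P : Subgroup G) : Set G)) a]
    congr 2
    ext y
    constructor
    · intro hy
      refine ⟨a⁻¹ * y * a, mem_centralizer_iff.2 fun z hz => ?_, by simp [mul_assoc]⟩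
      have := mem_centralizer_iff.1 hy (a * z * a⁻¹) (by
        rw [Sylow.coe_subgroup_smul]
        exact ⟨z, hz, rfl⟩)
      calc z * (a⁻¹ * y * a) = a⁻¹ * (a * z * a⁻¹ * y) * a := by group
        _ = a⁻¹ * (y * (a * z * a⁻¹)) * a := by rw [this]
        _ = _ := by group
    · rintro ⟨w, hw, rfl⟩
      refine mem_centralizer_iff.2 fun z hz => ?_
      rw [Sylow.coe_subgroup_smul] at hz
      obtain ⟨v, hv, rfl⟩ := hz
      show a * v * a⁻¹ * (a * w * a⁻¹) = a * w * a⁻¹ * (a * v * a⁻¹)
      calc a * v * a⁻¹ * (a * w * a⁻¹) = a * (v * w) * a⁻¹ := by group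
        _ = a * (w * v) * a⁻¹ := by rw [mem_centralizer_iff.1 hw v hv]
        _ = _ := by group
  have hsing : ∀ Q : Sylow p G, p * (Finset.univ.filter fun g : G =>
      g ∈ centralizer ((Q : Subgroup G) : Set G) ∧ p ∣ orderOf g).card ≤
      (p - 1) * Nat.card (centralizer ((P : Subgroup G) : Set G)) := by
    intro Q
    have hQ : Nat.card (Q : Subgroup G) = p := by rw [Q.card_eq_multiplicity, ← P.card_eq_multiplicity, D.card_P]
    obtain ⟨g, K, h, u, hD⟩ := exists_primeData Q hQ
    set C := Finset.univ.filter fun g : G => g ∈ centralizer ((Q : Subgroup G) : Set G) with hC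
    have hCc : C.card = Nat.card (centralizer ((P : Subgroup G) : Set G)) := by
      rw [← hconj Q, Nat.card_eq_fintype_card, ← Fintype.card_coe]
      exact Fintype.card_congr (Equiv.subtypeEquivRight fun _ => by simp [C])
    have hsplit := Finset.card_filter_add_card_filter_not (s := C) fun g => p ∣ orderOf g
    rw [Finset.filter_filter, Finset.filter_filter, hCc] at hsplit
    have hreg : C.card ≤ p * (Finset.univ.filter fun g : G =>
        g ∈ centralizer ((Q : Subgroup G) : Set G) ∧ ¬ p ∣ orderOf g).card := by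
      calc C.card ≤ ((Finset.range p ×ˢ Finset.univ.filter fun g : G =>
            g ∈ centralizer ((Q : Subgroup G) : Set G) ∧ ¬ p ∣ orderOf g).image
            fun z => g ^ z.1 * z.2).card := by
            refine Finset.card_le_card fun c hc => ?_
            obtain ⟨i, k, hk, rfl⟩ := hD.decomp c (Finset.mem_filter.1 hc).2
            refine Finset.mem_image.2 ⟨(i % p, k), Finset.mem_product.2
              ⟨Finset.mem_range.2 (Nat.mod_lt _ (Fact.out : p.Prime).pos), ?_⟩, ?_⟩
            · exact Finset.mem_filter.2 ⟨Finset.mem_univ _, ((hD.mem_iff k).1 hk).symm⟩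
            · show g ^ (i % p) * k = g ^ i * k
              conv_rhs => rw [← pow_mod_orderOf g, hD.order]
        _ ≤ _ := Finset.card_image_le
        _ = _ := by rw [Finset.card_product, Finset.card_range]
    rw [hCc] at hreg
    have hp1 : p - 1 + 1 = p := Nat.sub_add_cancel (Fact.out : p.Prime).one_le
    generalize (p - 1) = p' at hp1 ⊢
    subst hp1
    nlinarith
  have hsub : (Finset.univ.filter fun g : G => p ∣ orderOf g) ⊆ Finset.univ.biUnion
      fun Q : Sylow p G => Finset.univ.filter fun g : G =>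
        g ∈ centralizer ((Q : Subgroup G) : Set G) ∧ p ∣ orderOf g := by
    intro g hg
    have hg' := (Finset.mem_filter.1 hg).2
    have ho : orderOf (g ^ (orderOf g / p)) = p := orderOf_pow_orderOf_div (orderOf_pos g).ne' hg'
    have hpg : IsPGroup p (zpowers (g ^ (orderOf g / p))) :=
      IsPGroup.of_card (n := 1) (by rw [Nat.card_zpowers, ho, pow_one])
    obtain ⟨Q, hQ⟩ := hpg.exists_le_sylow
    have hQe : zpowers (g ^ (orderOf g / p)) = (Q : Subgroup G) := eq_of_le_of_card_ge hQ (by
      rw [Nat.card_zpowers, ho, Q.card_eq_multiplicity, ← P.card_eq_multiplicity, D.card_P])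
    refine Finset.mem_biUnion.2 ⟨Q, Finset.mem_univ _, Finset.mem_filter.2 ⟨Finset.mem_univ _, ?_, hg'⟩⟩
    rw [← hQe, zpowers_eq_closure, centralizer_closure, mem_centralizer_singleton_iff]
    exact (Commute.self_pow g _).eq
  have h1 := (Finset.card_le_card hsub).trans Finset.card_biUnion_le
  have h2 : p * (Finset.univ.filter fun g : G => p ∣ orderOf g).card ≤
      (p - 1) * Nat.card (centralizer ((P : Subgroup G) : Set G)) * Nat.card (Sylow p G) := by
    refine (Nat.mul_le_mul_left p h1).trans ?_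
    rw [Finset.mul_sum]
    refine (Finset.sum_le_sum fun Q _ => hsing Q).trans ?_
    rw [Finset.sum_const, smul_eq_mul, Finset.card_univ, ← Nat.card_eq_fintype_card, mul_comm]
  have h3 : Nat.card (centralizer ((P : Subgroup G) : Set G)) * D.e * Nat.card (Sylow p G) =
      Nat.card G := by
    rw [← D.he]
    have := relIndex_mul_relIndex ⊥ (centralizer ((P : Subgroup G) : Set G)) N bot_le
      (centralizer_le_normalizer _)
    rw [relIndex_bot_left, relIndex_bot_left] at this
    rw [this, P.card_eq_index_normalizer]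
    exact card_mul_index _
  calc (Finset.univ.filter fun g : G => p ∣ orderOf g).card * (p * D.e)
      = p * (Finset.univ.filter fun g : G => p ∣ orderOf g).card * D.e := by ring
    _ ≤ (p - 1) * Nat.card (centralizer ((P : Subgroup G) : Set G)) * Nat.card (Sylow p G) * D.e :=
        Nat.mul_le_mul_right _ h2
    _ = _ := by rw [← h3]; ring

end Cfsg.Agent.PrimeBlock
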