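import Cfsg.Agent.Lib.PrimeBlock.Tools

/-!
# There is no simple group of order `459648`
-/

set_option linter.style.haveILetI false

namespace Cfsg.Agent.PrimeBlock.Order459648

open Cfsg.Agent.Characters Cfsg.Agent.Blocks Subgroup
open Cfsg.Agent.SmallSimple

universe u

theorem dvd_cases {P : ℕ → Prop}
    (h : ∀ a ∈ Finset.range 8, ∀ b ∈ Finset.range 4, ∀ c ∈ Finset.range 2, ∀ e ∈ Finset.range 2,
      P (2 ^ a * 3 ^ b * 7 ^ c * 19 ^ e))
    {d : ℕ} (hd : d ∣ 459648) : P d := by
  rw [show 459648 = 2 ^ 7 * 3 ^ 3 * 7 ^ 1 * 19 ^ 1 by norm_num] at hd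
  obtain ⟨x, y, hx, hy, rfl⟩ := Nat.dvd_mul.1 hd
  obtain ⟨x', z, hx', hz, rfl⟩ := Nat.dvd_mul.1 hx
  obtain ⟨x'', w, hx'', hw, rfl⟩ := Nat.dvd_mul.1 hx'
  obtain ⟨a, ha, rfl⟩ := (Nat.dvd_prime_pow Nat.prime_two).1 hx''
  obtain ⟨b, hb, rfl⟩ := (Nat.dvd_prime_pow Nat.prime_three).1 hw
  obtain ⟨c, hc, rfl⟩ := (Nat.dvd_prime_pow (show Nat.Prime 7 by norm_num)).1 hz
  obtain ⟨e, he, rfl⟩ := (Nat.dvd_prime_pow (show Nat.Prime 19 by norm_num)).1 hy
  exact h a (Finset.mem_range.2 (by omega)) b (Finset.mem_range.2 (by omega)) c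
    (Finset.mem_range.2 (by omega)) e (Finset.mem_range.2 (by omega))

theorem sylow_cases {n : ℕ} (hd : n ∣ 459648) (h : n ∣ 24192) (hmod : n % 19 = 1) (h1 : 1 < n) :
    n = 96 ∨ n = 1008 := by
  revert h hmod h1
  exact dvd_cases (P := fun n => n ∣ 24192 → n % 19 = 1 → 1 < n → n = 96 ∨ n = 1008) (by decide +kernel) hd

theorem cand19 {d : ℕ} {s : ℤ} (hd : d ∣ 459648) (hs : s = 1 ∨ s = -1)
    (hm : (19 : ℤ) ∣ (s - (d : ℤ))) (h19 : 19 ≤ d) (hsq : d * d < 459648) :
    (s * d) ∈ [-56, 96, (-189 : ℤ)] := by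
  have h := dvd_cases (P := fun d => 19 ≤ d → d * d < 459648 →
    (d % 19 = 1 → d = 96) ∧ (d % 19 = 18 → d = 56 ∨ d = 189)) (by decide +kernel) hd h19 hsq
  rcases hs with rfl | rfl
  · obtain rfl := h.1 (by omega)
    simp
  · rcases h.2 (by omega) with rfl | rfl <;> simp

/-- The signed degrees available at `7`. -/
def list7 : List ℤ :=
  [-6, 8, -27, 36, -48, 57, 64, -76, -216, 288, -342, -384, 456, -608]

theorem cand7 {d : ℕ} {s : ℤ} (hd : d ∣ 459648) (hs : s = 1 ∨ s = -1)
    (hm : (7 : ℤ) ∣ (s - (d : ℤ))) (h1 : 1 < d) (hsq : d * d < 459648) : (s * d) ∈ list7 := by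
  have h := dvd_cases (P := fun d => 1 < d → d * d < 459648 →
    (d % 7 = 1 → (d : ℤ) ∈ list7) ∧ (d % 7 = 6 → -(d : ℤ) ∈ list7)) (by decide +kernel) hd h1 hsq
  rcases hs with rfl | rfl
  · simpa using h.1 (by omega)
  · simpa using h.2 (by omega)

theorem five_cases {a b c d e : ℤ} (ha : a ∈ [-56, 96, (-189 : ℤ)]) (hb : b ∈ [-56, 96, (-189 : ℤ)])
    (hc : c ∈ [-56, 96, (-189 : ℤ)]) (hd : d ∈ [-56, 96, (-189 : ℤ)]) (he : e ∈ [-56, 96, (-189 : ℤ)])
    (h : (1 + (a + (b + (c + (d + e))))).natAbs ∣ 459648) (h1 : (1 + (a + (b + (c + (d + e))))).natAbs ≠ 1) :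
    (1 + (a + (b + (c + (d + e))))).natAbs = 108 := by
  revert h h1
  revert e
  revert d
  revert c
  revert b
  revert a
  decide +kernel

theorem factorization_seven : (459648 : ℕ).factorization 7 = 1 := by
  rw [show (459648 : ℕ) = 7 * 65664 by norm_num, Nat.factorization_mul (by norm_num) (by norm_num),
    Finsupp.add_apply, Nat.Prime.factorization_self (by norm_num),
    Nat.factorization_eq_zero_of_not_dvd (by norm_num)]

theorem ne_card {G : Type u} [Group G] [Finite G] [IsSimpleGroup G] : Nat.card G ≠ 459648 := by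
  intro hcard
  classical
  haveI : Fact (Nat.Prime 19) := ⟨by norm_num⟩
  haveI : Fact (Nat.Prime 7) := ⟨by norm_num⟩
  have hG : ¬ IsMulCommutative G := Basic.not_comm_of_not_prime (by rw [hcard]; norm_num)
  obtain ⟨P⟩ : Nonempty (Sylow 19 G) := inferInstance
  have hP : Nat.card (P : Subgroup G) = 19 := by
    rw [Basic.card_sylow_eq_pow (a := 1) (m := 24192) (by rw [hcard]; norm_num) (by norm_num) P, pow_one]
  obtain ⟨hnd, hnm, hn1, -⟩ := Basic.sylow_count (p := 19) hG (by rw [hcard]; norm_num) (a := 1)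
    (m := 24192) (by rw [hcard]; norm_num) (by norm_num)
  obtain ⟨e, he, he1, hN, -⟩ := Centralize.centralizer_data hG P hP
  obtain ⟨D, ht, hts⟩ := exists_pblock' hG (by norm_num) P hP
  set C := centralizer ((P : Subgroup G) : Set G) with hC
  have hDe : D.e = e := by
    have := relIndex_mul_relIndex ⊥ C (normalizer ((P : Subgroup G) : Set G)) bot_le
      (centralizer_le_normalizer _)
    rw [relIndex_bot_left, relIndex_bot_left, hN, D.he] at this
    exact Nat.eq_of_mul_eq_mul_left Nat.card_pos this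
  have htot : Nat.card C * e * Nat.card (Sylow 19 G) = 459648 := by
    rw [← hN, Basic.card_normalizer_mul P, hcard]
  obtain ⟨k, hk⟩ : 19 ∣ Nat.card C := by
    rw [← hP]
    refine card_dvd_of_le fun x hx => mem_centralizer_iff.2 fun y hy => ?_
    haveI : IsCyclic (P : Subgroup G) := isCyclic_of_prime_card hP
    letI := IsCyclic.commGroup (α := (P : Subgroup G))
    exact congrArg Subtype.val (mul_comm (⟨y, hy⟩ : (P : Subgroup G)) ⟨x, hx⟩)
  have he' : e ∈ ([2, 3, 6, 9, 18] : List ℕ) := by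
    have : ∀ d ∈ Finset.range 19, d ∣ 18 → 1 < d → d ∈ ([2, 3, 6, 9, 18] : List ℕ) := by decide +kernel
    exact this e (Finset.mem_range.2 (by have := Nat.le_of_dvd (by norm_num) he; omega)) he he1
  simp only [List.mem_cons, List.not_mem_nil, or_false] at he'
  have hn : Nat.card (Sylow 19 G) = 96 ∨ Nat.card (Sylow 19 G) = 1008 :=
    sylow_cases (hnd.trans (by norm_num)) hnd hnm hn1
  have hk1 : k ≠ 1 := by
    rintro rfl
    rcases hn with hn | hn <;> rw [hk, hn] at htot <;>
      rcases he' with h | h | h | h | h <;> rw [h] at htot <;> norm_num at htot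
  -- the degrees at `19`
  have hbig : ∀ χ ∈ Cfsg.principalBlock D.M G, χ ≠ trivIrr G → 19 ≤ deg χ := fun χ hχ hne => by
    by_contra hlt
    have := D.card_centralizer hG hχ hne (by omega)
    rw [← hC, hk] at this
    omega
  have hdvd : ∀ χ : Cfsg.IrrCharacter G, deg χ ∣ 459648 := fun χ => hcard ▸ char_degree_dvd_card χ
  have hsq : ∀ χ : Cfsg.IrrCharacter G, χ ≠ trivIrr G → deg χ * deg χ < 459648 := fun χ hχ =>
    hcard ▸ deg_sq_lt hχ
  obtain ⟨L, f, hlen, hL, ⟨θ, hθ, hθf, hθ1⟩, hrel⟩ := D.exists_signed hG ht hts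
  rw [hDe] at hlen
  have hf : f = (1 + L.sum).natAbs := by
    rcases D.ε_eq with h | h <;> rw [h] at hrel <;> omega
  have hf1 : f ≠ 1 := by
    have := hbig θ ((D.mem_block θ).2 (Or.inr hθ)) hθ1
    omega
  have hfd : f ∣ 459648 := hθf ▸ hdvd θ
  have hL19 : ∀ z ∈ L, z ∈ [-56, 96, (-189 : ℤ)] := fun z hz => by
    obtain ⟨χ, hχ, hne, rfl⟩ := hL z hz
    exact cand19 (hdvd χ) (D.sgn_eq χ hχ) (Int.modEq_iff_dvd.1 (D.deg_X χ hχ))
      (hbig χ ((D.mem_block χ).2 (Or.inl hχ)) hne) (hsq χ hne)
  have h7L : 7 ∣ k → ∀ z ∈ L, z = 96 := by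
    intro h7 z hz
    have h := hL19 z hz
    simp only [List.mem_cons, List.not_mem_nil, or_false] at h
    obtain ⟨χ, hχ, hne, hzχ⟩ := hL z hz
    have hnf := D.not_full (q := 7) (by norm_num) (by norm_num) (by rw [← hC, hk]; exact h7.mul_left 19)
      ((D.mem_block χ).2 (Or.inl hχ))
    rw [hcard, factorization_seven, pow_one] at hnf
    rcases h with h | h | h
    · exact absurd (show 7 ∣ deg χ by rcases D.sgn_eq χ hχ with e | e <;> rw [e] at hzχ <;> omega) hnf
    · exact h
    · exact absurd (show 7 ∣ deg χ by rcases D.sgn_eq χ hχ with e | e <;> rw [e] at hzχ <;> omega) hnf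
  rcases hn with hn | hn <;> rw [hk, hn] at htot
  · -- 96 subgroups
    have hall := h7L (by rcases he' with rfl | rfl | rfl | rfl | rfl <;> omega)
    rw [List.eq_replicate_of_mem hall, List.sum_replicate, hlen] at hf
    rcases he' with rfl | rfl | rfl | rfl | rfl <;> norm_num at hf <;> rw [hf] at hfd <;> norm_num at hfd
  · -- 1008 subgroups
    rcases he' with rfl | rfl | rfl | rfl | rfl
    · obtain ⟨a, rfl⟩ := List.length_eq_one_iff.1 hlen
      have ha := hL19 a (by simp)
      simp only [List.mem_cons, List.not_mem_nil, or_false] at ha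
      rcases ha with rfl | rfl | rfl <;> norm_num at hf <;> rw [hf] at hfd <;> norm_num at hfd
    · obtain ⟨a, b, rfl⟩ := List.length_eq_two.1 hlen
      have ha := hL19 a (by simp)
      have hb := hL19 b (by simp)
      simp only [List.mem_cons, List.not_mem_nil, or_false] at ha hb
      rcases ha with rfl | rfl | rfl <;> rcases hb with rfl | rfl | rfl <;> norm_num at hf <;>
        rw [hf] at hfd <;> norm_num at hfd
    · match L, hlen with
      | [a, b, c, d, g], _ =>
        simp only [List.sum_cons, List.sum_nil, add_zero] at hf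
        have h108 : f = 108 := by
          rw [hf]
          exact five_cases (hL19 a (by simp)) (hL19 b (by simp)) (hL19 c (by simp)) (hL19 d (by simp))
            (hL19 g (by simp)) (hf ▸ hfd) (hf ▸ hf1)
        obtain ⟨Q⟩ : Nonempty (Sylow 7 G) := inferInstance
        have hQ : Nat.card (Q : Subgroup G) = 7 := by
          rw [Basic.card_sylow_eq_pow (a := 1) (m := 65664) (by rw [hcard]; norm_num) (by norm_num) Q, pow_one]
        obtain ⟨D7, ht7, hts7⟩ := exists_pblock' hG (by norm_num) Q hQ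
        obtain ⟨χ, hχ, hχ7, hne, hnd7, -⟩ := D.exists_common hG (q := 7) (by norm_num) (by norm_num)
          (by rw [hcard]; norm_num) (by rw [← hC, hk]; omega) D7.hM
        have hdeg : deg χ = 96 ∨ deg χ = 108 := by
          rcases (D.mem_block χ).1 hχ with h | h
          · have := cand19 (hdvd χ) (D.sgn_eq χ h) (Int.modEq_iff_dvd.1 (D.deg_X χ h)) (hbig χ hχ hne)
              (hsq χ hne)
            simp only [List.mem_cons, List.not_mem_nil, or_false] at this
            rcases D.sgn_eq χ h with e | e <;> rw [e] at this <;> omega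
          · exact Or.inr ((D.deg_Y_eq h hθ).trans (hθf.trans h108))
        have hχY : χ ∈ D7.Y := ((D7.mem_block χ).1 hχ7).resolve_left fun h => by
          have := Int.modEq_iff_dvd.1 (D7.deg_X χ h)
          rcases D7.sgn_eq χ h with e | e <;> rw [e] at this <;>
            rcases hdeg with d | d <;> rw [d] at this <;> omega
        have hm := Int.modEq_iff_dvd.1 (D7.deg_Y χ hχY)
        obtain ⟨L7, f7, hlen7, hL7, ⟨θ7, hθ7, hθ7f, -⟩, hrel7⟩ := D7.exists_signed hG ht7 hts7
        have hf7 : f7 = deg χ := hθ7f ▸ D7.deg_Y_eq hθ7 hχY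
        have hmem : ∀ z ∈ L7, z ∈ list7 := fun z hz => by
          obtain ⟨ψ, hψ, hne', rfl⟩ := hL7 z hz
          exact cand7 (hdvd ψ) (D7.sgn_eq ψ hψ) (Int.modEq_iff_dvd.1 (D7.deg_X ψ hψ))
            (by
              have h0 : 0 < deg ψ := charDegree_pos ψ
              have h1 : deg ψ ≠ 1 := deg_ne_one hG hne'
              omega) (hsq ψ hne')
        have he7 : D7.e ∈ Finset.range 7 := Finset.mem_range.2 D7.e_lt
        have he7d := D7.e_dvd
        have he7e : D7.e = 1 ∨ D7.e = 2 ∨ D7.e = 3 ∨ D7.e = 6 := by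
          revert he7d; revert he7; generalize D7.e = t; revert t; decide +kernel
        rw [hf7] at hrel7
        rcases hdeg with d96 | d108
        · rw [d96] at hm hrel7
          have : D7.e = 2 ∧ D7.ε = -1 := by
            rcases D7.ε_eq with e | e <;> rcases he7e with h | h | h | h <;> rw [e, h] at hm <;>
              first | exact ⟨h, e⟩ | omega
          rw [this.2] at hrel7
          rw [this.1] at hlen7
          obtain ⟨z, rfl⟩ := List.length_eq_one_iff.1 hlen7
          have := hmem z (by simp)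
          simp [list7] at this
          simp at hrel7
          omega
        · rw [d108] at hm hrel7
          have : D7.e = 3 ∧ D7.ε = 1 := by
            rcases D7.ε_eq with e | e <;> rcases he7e with h | h | h | h <;> rw [e, h] at hm <;>
              first | exact ⟨h, e⟩ | omega
          rw [this.2] at hrel7
          rw [this.1] at hlen7
          obtain ⟨y, z, rfl⟩ := List.length_eq_two.1 hlen7
          have hy := hmem y (by simp)
          have hz := hmem z (by simp)
          simp [list7] at hy hz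
          simp at hrel7
          omega
    · omega
    · omega

end Cfsg.Agent.PrimeBlock.Order459648
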